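import Cfsg.Agent.LargeExtra.Perp
import Cfsg.Agent.LargeExtra.KillSiegel

section


/-!
# Commuting conjugates of `z` in different components (helper71, after helper990's LEMMA CC)

`Two Qr Qs r s P`: `r, s` commuting elements of a class `P`, `Qr, Qs` their large extraspecial subgroups,
`Qr ∩ Qs ∩ P = ∅`.  `h` = action of `s` on `V = Qr / ⟨r⟩`, `W = [V, h]`, `F = C_V(h)`, `Xt = C_{Qr}(s) / ⟨r⟩`,
`Dt` = image of `Qr ∩ Qs`.
-/

set_option autoImplicit false

namespace Cfsg.Agent.LargeExtra.CC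

open Cfsg.Agent.Co2Type.Quad Cfsg.Agent.LargeExtra.Base Cfsg.Agent.LargeExtra.Local
open Cfsg.Agent.LargeExtra.KillSiegel

structure Two {G : Type*} [Group G] (Qr Qs : Subgroup G) (r s : G) (P : G → Prop) : Prop where
  lr : Large Qr r
  ls : Large Qs s
  comm : s * r = r * s
  hr : r ∉ Qs
  hs : s ∉ Qr
  conj : ∀ g x, P x → P (g * x * g⁻¹)
  Pr : P r
  Ps : P s
  none : ∀ x ∈ Qr, x ∈ Qs → ¬ P x

namespace Two

variable {G : Type*} [Group G] {Qr Qs : Subgroup G} {r s : G} {P : G → Prop}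

theorem symm (T : Two Qr Qs r s P) : Two Qs Qr s r P where
  lr := T.ls
  ls := T.lr
  comm := T.comm.symm
  hr := T.hs
  hs := T.hr
  conj := T.conj
  Pr := T.Ps
  Ps := T.Pr
  none := fun x h1 h2 => T.none x h2 h1

/-! ### the three elementwise facts -/

theorem key2 (T : Two Qr Qs r s P) {x d : G} (hx : x ∈ Qr) (hd : d ∈ Qr) (hd' : d ∈ Qs)
    (e : x * s * x⁻¹ = d * s) : d = 1 := by
  by_contra h1
  have h2 : d ≠ s := fun h => T.hs (h ▸ hd)
  obtain ⟨y, hy, hyd⟩ := exists_not_comm T.ls hd' h1 h2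
  have h3 : P (d * s) := by rw [← e]; exact T.conj x s T.Ps
  have h4 : d * s = y * d * y⁻¹ := by
    rw [hyd, mul_assoc (d * y), ← (T.ls.commz hy).inv_left.eq]; group
  have h5 : P d := by
    have h6 := T.conj y⁻¹ _ h3
    rw [h4] at h6
    have : y⁻¹ * (y * d * y⁻¹) * y⁻¹⁻¹ = d := by group
    rwa [this] at h6
  exact T.none d hd hd' h5

theorem conj_r (T : Two Qr Qs r s P) {x : G} (hx : x ∈ Qr) : x * r * x⁻¹ = r := by
  rw [T.lr.comm_z x hx]; group

theorem key3 (T : Two Qr Qs r s P) {x x0 d : G} (hx : x ∈ Qr) (hx0 : x0 ∈ Qr) (hd : d ∈ Qr)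
    (hd' : d ∈ Qs) (e : x * s * x⁻¹ = d * r * s) (e0 : x0 * s * x0⁻¹ = r * s)
    (hc : x0 * d = d * x0) : d = 1 := by
  apply T.key2 (Qr.mul_mem hx0 hx) hd hd'
  calc x0 * x * s * (x0 * x)⁻¹ = x0 * (x * s * x⁻¹) * x0⁻¹ := by group
    _ = (x0 * d * x0⁻¹) * (x0 * r * x0⁻¹) * (x0 * s * x0⁻¹) := by rw [e]; group
    _ = d * (r * r) * s := by
      rw [T.conj_r hx0, e0, hc]; group
    _ = d * s := by rw [T.lr.z_sq, mul_one]

theorem key3' (T : Two Qr Qs r s P) {x x' d d' : G} (hx : x ∈ Qr) (hx' : x' ∈ Qr) (hd : d ∈ Qr)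
    (hd1 : d ∈ Qs) (hd' : d' ∈ Qr) (hd1' : d' ∈ Qs) (e : x * s * x⁻¹ = d * r * s)
    (e' : x' * s * x'⁻¹ = d' * r * s) (hc : x * d' = d' * x) : d' * d = 1 := by
  apply T.key2 (Qr.mul_mem hx hx') (Qr.mul_mem hd' hd) (Qs.mul_mem hd1' hd1)
  calc x * x' * s * (x * x')⁻¹ = x * (x' * s * x'⁻¹) * x⁻¹ := by group
    _ = (x * d' * x⁻¹) * (x * r * x⁻¹) * (x * s * x⁻¹) := by rw [e']; group
    _ = d' * (r * d) * r * s := by
      rw [T.conj_r hx, e, hc]; group
    _ = d' * d * (r * r) * s := by rw [← T.lr.comm_z d hd]; group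
    _ = d' * d * s := by rw [T.lr.z_sq, mul_one]

theorem key3'' (T : Two Qr Qs r s P) {x x' : G} (hx : x ∈ Qr)
    (e : x * s * x⁻¹ = r * s) (e' : x' * s * x'⁻¹ = r * s) : x * x' * s = s * (x * x') := by
  have : x * x' * s * (x * x')⁻¹ = s := by
    calc x * x' * s * (x * x')⁻¹ = x * (x' * s * x'⁻¹) * x⁻¹ := by group
      _ = (x * r * x⁻¹) * (x * s * x⁻¹) := by rw [e']; group
      _ = (r * r) * s := by rw [T.conj_r hx, e]; group
      _ = s := by rw [T.lr.z_sq, one_mul]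
  rwa [mul_inv_eq_iff_eq_mul] at this

/-! ### the linear maps -/

/-- `s` on `V` -/
noncomputable def h (T : Two Qr Qs r s P) : T.lr.V ≃ₗ[ZMod 2] T.lr.V :=
  T.lr.act ⟨s, Subgroup.mem_centralizer_singleton_iff.2 T.comm⟩

/-- an element of `C(r)` on `V` -/
noncomputable def ac (T : Two Qr Qs r s P) {y : G} (hy : y * r = r * y) :
    T.lr.V ≃ₗ[ZMod 2] T.lr.V :=
  T.lr.act ⟨y, Subgroup.mem_centralizer_singleton_iff.2 hy⟩

theorem ac_pr (T : Two Qr Qs r s P) {y : G} (hy : y * r = r * y) (x : Qr) :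
    T.ac hy (T.lr.pr x) = T.lr.pr ⟨y * x * y⁻¹, T.lr.conj_mem y hy x x.2⟩ := T.lr.act_pr _ x

theorem h_pr (T : Two Qr Qs r s P) (x : Qr) :
    T.h (T.lr.pr x) = T.lr.pr ⟨s * x * s⁻¹, T.lr.conj_mem s T.comm x x.2⟩ := T.lr.act_pr _ x

theorem b_ac (T : Two Qr Qs r s P) {y : G} (hy : y * r = r * y) (v w : T.lr.V) :
    T.lr.b (T.ac hy v) (T.ac hy w) = T.lr.b v w := T.lr.b_act _ v w

theorem b_h' (T : Two Qr Qs r s P) (v w : T.lr.V) :
    T.lr.b (T.h v) (T.h w) = T.lr.b v w := T.lr.b_act _ v w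

theorem q_h (T : Two Qr Qs r s P) (v : T.lr.V) : T.lr.q (T.h v) = T.lr.q v := T.lr.q_act _ v

theorem s_inv (T : Two Qr Qs r s P) : s⁻¹ = s := T.ls.z_inv

theorem hh (T : Two Qr Qs r s P) (v : T.lr.V) : T.h (T.h v) = v := by
  obtain ⟨x, rfl⟩ := T.lr.pr_surjective v
  rw [T.h_pr, T.h_pr]
  congr 1
  apply Subtype.ext
  show s * (s * (x : G) * s⁻¹) * s⁻¹ = x
  rw [T.s_inv]
  calc s * (s * (x : G) * s) * s = (s * s) * x * (s * s) := by group
    _ = x := by rw [T.ls.z_sq, one_mul, mul_one]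

theorem b_h (T : Two Qr Qs r s P) (v w : T.lr.V) :
    T.lr.b (T.h v) w = T.lr.b v (T.h w) := by
  have := T.b_h' v (T.h w)
  rwa [T.hh] at this

/-- `F = C_V(h)` -/
noncomputable def F (T : Two Qr Qs r s P) : Submodule (ZMod 2) T.lr.V where
  carrier := {v | T.h v = v}
  zero_mem' := map_zero _
  add_mem' := by
    intro v w hv hw
    show T.h (v + w) = v + w
    rw [map_add, hv, hw]
  smul_mem' := by
    intro c v hv
    show T.h (c • v) = c • v
    rw [map_smul, hv]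

/-- `W = [V, h]` -/
noncomputable def W (T : Two Qr Qs r s P) : Submodule (ZMod 2) T.lr.V where
  carrier := {w | ∃ u, T.h u + u = w}
  zero_mem' := ⟨0, by rw [map_zero, add_zero]⟩
  add_mem' := by
    rintro _ _ ⟨u, rfl⟩ ⟨v, rfl⟩
    exact ⟨u + v, by rw [map_add]; abel⟩
  smul_mem' := by
    rintro c _ ⟨u, rfl⟩
    exact ⟨c • u, by rw [map_smul, smul_add]⟩

theorem mem_F (T : Two Qr Qs r s P) {v : T.lr.V} : v ∈ T.F ↔ T.h v = v := Iff.rfl

theorem mem_W (T : Two Qr Qs r s P) {w : T.lr.V} : w ∈ T.W ↔ ∃ u, T.h u + u = w := Iff.rfl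

theorem add_eq_zero (T : Two Qr Qs r s P) {v w : T.lr.V} : v + w = 0 ↔ v = w := by
  rw [add_eq_zero_iff_eq_neg, T.lr.neg_eq]

theorem W_le_F (T : Two Qr Qs r s P) : T.W ≤ T.F := by
  rintro _ ⟨u, rfl⟩
  rw [mem_F, map_add, T.hh, add_comm]

theorem b_W_F (T : Two Qr Qs r s P) {w v : T.lr.V} (hw : w ∈ T.W) (hv : v ∈ T.F) :
    T.lr.b w v = 0 := by
  obtain ⟨u, rfl⟩ := hw
  rw [map_add, LinearMap.add_apply, T.b_h, T.mem_F.1 hv]
  exact CharTwo.add_self_eq_zero _

theorem mem_F_of (T : Two Qr Qs r s P) {v : T.lr.V} (hv : ∀ w ∈ T.W, T.lr.b w v = 0) : v ∈ T.F := by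
  rw [mem_F, ← T.add_eq_zero]
  apply T.lr.b_nondeg
  intro u
  rw [T.lr.b_comm, map_add, ← T.b_h, ← LinearMap.add_apply, ← map_add]
  exact hv _ ⟨u, rfl⟩

theorem mem_W_of [Finite G] (T : Two Qr Qs r s P) {w : T.lr.V} (hw : ∀ v ∈ T.F, T.lr.b v w = 0) :
    w ∈ T.W := by
  apply Perp.mem_of_perp T.lr
  intro v hv
  exact hw v (T.mem_F_of hv)

/-- the orthogonal space of `F` is `W` -/
theorem perp_F [Finite G] (T : Two Qr Qs r s P) : T.lr.b.orthogonal T.F = T.W := by
  ext w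
  rw [Perp.mem_perp]
  constructor
  · exact T.mem_W_of
  · intro hw v hv
    rw [T.lr.b_comm]
    exact T.b_W_F hw hv

theorem card_W_F [Finite G] (T : Two Qr Qs r s P) :
    Nat.card T.F * Nat.card T.W = Nat.card T.lr.V := by
  rw [← T.perp_F]
  exact Perp.card_perp T.lr T.F

theorem W_ne (T : Two Qr Qs r s P) [Finite G] : ∃ u, T.h u ≠ u := by
  by_contra hcon
  push Not at hcon
  apply T.hs
  have : (T.lr.act ⟨s, Subgroup.mem_centralizer_singleton_iff.2 T.comm⟩) = 1 := by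
    ext v
    exact hcon v
  exact T.lr.mem_of_act _ this

/-! ### commutators of elements of `Qr` with `s` -/

theorem comm_mem (T : Two Qr Qs r s P) {x : G} (hx : x ∈ Qr) : x * s * x⁻¹ * s⁻¹ ∈ Qr := by
  have h1 := T.lr.conj_mem s T.comm x⁻¹ (Qr.inv_mem hx)
  have e : x * s * x⁻¹ * s⁻¹ = x * (s * x⁻¹ * s⁻¹) := by group
  rw [e]
  exact Qr.mul_mem hx h1

theorem pr_comm (T : Two Qr Qs r s P) (x : Qr) :
    T.lr.pr ⟨x * s * (x : G)⁻¹ * s⁻¹, T.comm_mem x.2⟩ = T.h (T.lr.pr x) + T.lr.pr x := by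
  have e : (⟨x * s * (x : G)⁻¹ * s⁻¹, T.comm_mem x.2⟩ : Qr) =
      x * ⟨s * ((x⁻¹ : Qr) : G) * s⁻¹, T.lr.conj_mem s T.comm _ (x⁻¹ : Qr).2⟩ := by
    apply Subtype.ext
    show (x : G) * s * (x : G)⁻¹ * s⁻¹ = x * (s * (x : G)⁻¹ * s⁻¹)
    group
  rw [e, T.lr.pr_mul, ← T.h_pr, T.lr.pr_inv, map_neg, T.lr.neg_eq, add_comm]

/-- if `h u + u` is the image of `d` then `x s x⁻¹ = d s` or `d r s` -/
theorem comm_cases (T : Two Qr Qs r s P) (x d : Qr)
    (e : T.h (T.lr.pr x) + T.lr.pr x = T.lr.pr d) :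
    x * s * (x : G)⁻¹ = d * s ∨ x * s * (x : G)⁻¹ = d * r * s := by
  rw [← T.pr_comm, T.lr.pr_eq_pr] at e
  have e' : (x : G) * s * (x : G)⁻¹ * s⁻¹ = d ∨ (x : G) * s * (x : G)⁻¹ * s⁻¹ = d * r := e
  rcases e' with h1 | h1
  · left; rw [← h1]; group
  · right; rw [← h1]; group

/-- `C_{Qr}(s) / ⟨r⟩` -/
def Xt (T : Two Qr Qs r s P) : Submodule (ZMod 2) T.lr.V :=
  Local.sub T.lr (Subgroup.centralizer ({s} : Set G))

/-- the image of `Qr ∩ Qs` -/
def Dt (T : Two Qr Qs r s P) : Submodule (ZMod 2) T.lr.V := Local.sub T.lr Qs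

theorem pr_mem_Xt (T : Two Qr Qs r s P) (x : Qr) : T.lr.pr x ∈ T.Xt ↔ (x : G) * s = s * x := by
  rw [Xt, Local.pr_mem_sub T.lr (Subgroup.mem_centralizer_singleton_iff.2 T.comm.symm)]
  exact Subgroup.mem_centralizer_singleton_iff

theorem Xt_le_F (T : Two Qr Qs r s P) : T.Xt ≤ T.F := by
  rintro v hv
  obtain ⟨x, rfl⟩ := T.lr.pr_surjective v
  rw [T.pr_mem_Xt] at hv
  rw [mem_F, T.h_pr]
  congr 1
  apply Subtype.ext
  show s * (x : G) * s⁻¹ = x
  rw [← hv]; group

theorem Dt_le_Xt (T : Two Qr Qs r s P) : T.Dt ≤ T.Xt := by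
  rintro v ⟨x, hx, rfl⟩
  rw [T.pr_mem_Xt]
  exact T.ls.comm_z x hx

/-- `[D, X_r] = 1` -/
theorem b_Dt_Xt (T : Two Qr Qs r s P) {d v : T.lr.V} (hd : d ∈ T.Dt) (hv : v ∈ T.Xt) :
    T.lr.b d v = 0 := by
  obtain ⟨d, hd, rfl⟩ := hd
  obtain ⟨x, rfl⟩ := T.lr.pr_surjective v
  rw [T.pr_mem_Xt] at hv
  rw [T.lr.b_pr]
  rcases T.lr.comm d d.2 x x.2 with h1 | h1
  · exact h1
  · exfalso
    apply T.hr
    -- `x d x⁻¹ = d r`
    have h2 := T.ls.conj_mem x hv d hd
    have h3 : (x : G) * d * (x : G)⁻¹ = d * r⁻¹ := by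
      have h4 : (x : G) * d = d * x * r⁻¹ := by rw [h1]; group
      rw [h4, mul_assoc (d * (x : G)), ← (T.lr.commz x.2).inv_left.inv_right.eq]
      group
    rw [h3] at h2
    have h5 := Qs.mul_mem (Qs.inv_mem hd) h2
    rw [inv_mul_cancel_left] at h5
    exact Qs.inv_mem_iff.1 h5

/-- `|F : Xt| ≤ 2` -/
theorem add_mem_Xt (T : Two Qr Qs r s P) {v w : T.lr.V} (hv : v ∈ T.F) (hw : w ∈ T.F)
    (hv' : v ∉ T.Xt) (hw' : w ∉ T.Xt) : v + w ∈ T.Xt := by
  obtain ⟨x, rfl⟩ := T.lr.pr_surjective v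
  obtain ⟨y, rfl⟩ := T.lr.pr_surjective w
  have key : ∀ x : Qr, T.lr.pr x ∈ T.F → T.lr.pr x ∉ T.Xt → (x : G) * s * (x : G)⁻¹ = r * s := by
    intro x h1 h2
    rcases T.comm_cases x 1 (by rw [T.mem_F.1 h1, T.lr.add_self, T.lr.pr_one]) with h3 | h3
    · exfalso
      apply h2
      rw [T.pr_mem_Xt]
      have h4 : (x : G) * s * (x : G)⁻¹ = s := by rw [h3]; exact one_mul _
      rwa [mul_inv_eq_iff_eq_mul] at h4
    · rw [h3]
      show 1 * r * s = r * s
      rw [one_mul]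
  rw [← T.lr.pr_mul, T.pr_mem_Xt]
  exact T.key3'' x.2 (key x hv hv') (key y hw hw')

/-- (3) a nonzero element of `D̃ ∩ W` -/
theorem one_of_D (T : Two Qr Qs r s P) {x d : Qr} (hd : (d : G) ∈ Qs) (hd1 : T.lr.pr d ≠ 0)
    (e : T.h (T.lr.pr x) + T.lr.pr x = T.lr.pr d) : x * s * (x : G)⁻¹ = d * r * s := by
  rcases T.comm_cases x d e with h1 | h1
  · exfalso
    apply hd1
    rw [T.lr.pr_eq_zero]
    left
    exact T.key2 x.2 d.2 hd h1
  · exact h1

theorem F_le_Xt (T : Two Qr Qs r s P) {δ : T.lr.V} (hδ : δ ∈ T.Dt) (hW : δ ∈ T.W) (h0 : δ ≠ 0) :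
    T.F ≤ T.Xt := by
  intro v hv
  obtain ⟨d, hd, rfl⟩ := hδ
  obtain ⟨u, hu⟩ := hW
  obtain ⟨x, rfl⟩ := T.lr.pr_surjective u
  obtain ⟨x0, rfl⟩ := T.lr.pr_surjective v
  have e := T.one_of_D hd h0 hu
  by_contra hcon
  rcases T.comm_cases x0 1 (by rw [T.mem_F.1 hv, T.lr.add_self, T.lr.pr_one]) with h3 | h3
  · apply hcon
    rw [T.pr_mem_Xt]
    have h4 : (x0 : G) * s * (x0 : G)⁻¹ = s := by rw [h3]; exact one_mul _
    rwa [mul_inv_eq_iff_eq_mul] at h4
  · have h4 : (x0 : G) * s * (x0 : G)⁻¹ = r * s := by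
      rw [h3]
      show 1 * r * s = r * s
      rw [one_mul]
    apply h0
    rw [T.lr.pr_eq_zero]
    left
    apply T.key3 x.2 x0.2 d.2 hd e h4
    rw [← T.lr.b_pr, T.lr.b_comm]
    exact T.b_W_F ⟨_, hu⟩ hv

theorem b_one (T : Two Qr Qs r s P) {u u' δ δ' : T.lr.V} (hδ : δ ∈ T.Dt) (hδ' : δ' ∈ T.Dt)
    (hu : T.h u + u = δ) (hu' : T.h u' + u' = δ') (h0 : δ ≠ 0) (h0' : δ' ≠ 0) (hne : δ ≠ δ') :
    T.lr.b u δ' = 1 := by
  obtain ⟨d, hd, rfl⟩ := hδ
  obtain ⟨d', hd', rfl⟩ := hδ'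
  obtain ⟨x, rfl⟩ := T.lr.pr_surjective u
  obtain ⟨x', rfl⟩ := T.lr.pr_surjective u'
  have e := T.one_of_D hd h0 hu
  have e' := T.one_of_D hd' h0' hu'
  rcases zmod2 (T.lr.b (T.lr.pr x) (T.lr.pr d')) with h1 | h1
  · exfalso
    apply hne
    have h2 := T.key3' x.2 x'.2 d.2 hd d'.2 hd' e e' ((T.lr.b_pr x d').1 h1)
    have h3 : T.lr.pr (d' * d) = 0 := T.lr.pr_eq_zero.2 (Or.inl h2)
    rw [T.lr.pr_mul, T.add_eq_zero] at h3
    exact h3.symm
  · exact h1

/-- `q(w) = 0` for `w ∈ W ∩ X̃` -/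
theorem q_W (T : Two Qr Qs r s P) {w : T.lr.V} (hw : w ∈ T.W) (hX : w ∈ T.Xt) : T.lr.q w = 0 := by
  obtain ⟨u, rfl⟩ := hw
  obtain ⟨x, rfl⟩ := T.lr.pr_surjective u
  rw [← T.pr_comm] at hX ⊢
  rw [T.pr_mem_Xt] at hX
  rw [T.lr.q_eq_zero]
  have hX' : (x * s * (x : G)⁻¹ * s⁻¹) * s = s * (x * s * (x : G)⁻¹ * s⁻¹) := hX
  show (x * s * (x : G)⁻¹ * s⁻¹) * (x * s * (x : G)⁻¹ * s⁻¹) = 1
  have e1 : s * (x * s * (x : G)⁻¹ * s⁻¹) * s⁻¹ = (x * s * (x : G)⁻¹ * s⁻¹)⁻¹ := by
    have hs := T.s_inv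
    calc s * (x * s * (x : G)⁻¹ * s⁻¹) * s⁻¹ = s * x * s * (x : G)⁻¹ * (s⁻¹ * s⁻¹) := by group
      _ = s * x * s * (x : G)⁻¹ := by rw [hs, T.ls.z_sq, mul_one]
      _ = s * x * s⁻¹ * (x : G)⁻¹ := by rw [hs]
      _ = (x * s * (x : G)⁻¹ * s⁻¹)⁻¹ := by group
  rw [← hX'] at e1
  have e2 : (x * s * (x : G)⁻¹ * s⁻¹) * s * s⁻¹ = x * s * (x : G)⁻¹ * s⁻¹ := by group
  rw [e2] at e1
  nth_rewrite 1 [e1]
  rw [inv_mul_cancel]

/-- `q` vanishes on `W` exactly if `W ≤ X̃` -/
theorem mem_Xt_of_q (T : Two Qr Qs r s P) {w : T.lr.V} (hw : w ∈ T.W) (hq : T.lr.q w = 0) :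
    w ∈ T.Xt := by
  obtain ⟨u, rfl⟩ := hw
  obtain ⟨x, rfl⟩ := T.lr.pr_surjective u
  rw [← T.pr_comm] at hq ⊢
  rw [T.lr.q_eq_zero] at hq
  rw [T.pr_mem_Xt]
  have hq' : (x * s * (x : G)⁻¹ * s⁻¹) * (x * s * (x : G)⁻¹ * s⁻¹) = 1 := hq
  show (x * s * (x : G)⁻¹ * s⁻¹) * s = s * (x * s * (x : G)⁻¹ * s⁻¹)
  have e1 : s * (x * s * (x : G)⁻¹ * s⁻¹) * s⁻¹ = (x * s * (x : G)⁻¹ * s⁻¹)⁻¹ := by
    have hs := T.s_inv
    calc s * (x * s * (x : G)⁻¹ * s⁻¹) * s⁻¹ = s * x * s * (x : G)⁻¹ * (s⁻¹ * s⁻¹) := by group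
      _ = s * x * s * (x : G)⁻¹ := by rw [hs, T.ls.z_sq, mul_one]
      _ = s * x * s⁻¹ * (x : G)⁻¹ := by rw [hs]
      _ = (x * s * (x : G)⁻¹ * s⁻¹)⁻¹ := by group
  rw [inv_eq_of_mul_eq_one_left hq', mul_inv_eq_iff_eq_mul] at e1
  exact e1.symm

/-! ### the action of `X_s = C_{Qs}(r)` -/

theorem ac_Dt (T : Two Qr Qs r s P) {y : G} (hy : y ∈ Qs) (hyr : y * r = r * y) {v : T.lr.V}
    (hv : v ∈ T.Dt) : T.ac hyr v = v := by
  obtain ⟨d, hd, rfl⟩ := hv
  rw [T.ac_pr]
  congr 1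
  apply Subtype.ext
  show y * (d : G) * y⁻¹ = d
  rcases T.ls.comm y hy d hd with h1 | h1
  · rw [h1]; group
  · exfalso
    apply T.hs
    have h2 := T.lr.conj_mem y hyr d d.2
    have h3 : y * (d : G) * y⁻¹ = d * s := by
      rw [h1, mul_assoc ((d : G) * y), ← (T.ls.commz hy).inv_left.eq]; group
    rw [h3] at h2
    have h4 := Qr.mul_mem (Qr.inv_mem d.2) h2
    rwa [inv_mul_cancel_left] at h4

theorem ac_Xt (T : Two Qr Qs r s P) {y : G} (hy : y ∈ Qs) (hyr : y * r = r * y) {v : T.lr.V}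
    (hv : v ∈ T.Xt) : T.ac hyr v + v ∈ T.Dt := by
  obtain ⟨x, rfl⟩ := T.lr.pr_surjective v
  rw [T.pr_mem_Xt] at hv
  rw [T.ac_pr]
  refine ⟨⟨y * x * y⁻¹, T.lr.conj_mem y hyr x x.2⟩ * x⁻¹, ?_, ?_⟩
  · show y * (x : G) * y⁻¹ * (x : G)⁻¹ ∈ Qs
    have h1 := T.ls.conj_mem x hv y⁻¹ (Qs.inv_mem hy)
    have e : y * (x : G) * y⁻¹ * (x : G)⁻¹ = y * (x * y⁻¹ * (x : G)⁻¹) := by group
    rw [e]
    exact Qs.mul_mem hy h1
  · rw [T.lr.pr_mul, T.lr.pr_inv, T.lr.neg_eq]

theorem ac_mul (T : Two Qr Qs r s P) {y y' : G} (hy : y * r = r * y) (hy' : y' * r = r * y')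
    (h : y * y' * r = r * (y * y')) (v : T.lr.V) : T.ac h v = T.ac hy (T.ac hy' v) := by
  have e : (⟨y * y', Subgroup.mem_centralizer_singleton_iff.2 h⟩ :
      Subgroup.centralizer ({r} : Set G)) = ⟨y, Subgroup.mem_centralizer_singleton_iff.2 hy⟩ *
        ⟨y', Subgroup.mem_centralizer_singleton_iff.2 hy'⟩ := Subtype.ext rfl
  rw [ac, e, map_mul]
  rfl

/-- two elements of `X_s` that do not commute -/
theorem ac_ac (T : Two Qr Qs r s P) {y y' : G} (hy : y ∈ Qs) (hy' : y' ∈ Qs) (hyr : y * r = r * y)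
    (hyr' : y' * r = r * y') (hne : y * y' ≠ y' * y) (v : T.lr.V) :
    T.ac hyr (T.ac hyr' v) = T.ac hyr' (T.ac hyr (T.h v)) := by
  have h1 : y * y' = y' * y * s := (T.ls.comm y hy y' hy').resolve_left hne
  obtain ⟨x, rfl⟩ := T.lr.pr_surjective v
  rw [T.h_pr, T.ac_pr, T.ac_pr, T.ac_pr, T.ac_pr]
  congr 1
  apply Subtype.ext
  show y * (y' * (x : G) * y'⁻¹) * y⁻¹ = y' * (y * (s * x * s⁻¹) * y⁻¹) * y'⁻¹
  calc y * (y' * (x : G) * y'⁻¹) * y⁻¹ = (y * y') * x * (y * y')⁻¹ := by group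
    _ = y' * (y * (s * x * s⁻¹) * y⁻¹) * y'⁻¹ := by rw [h1]; group

/-- `[D̃^⊥, y] ≤ X̃^⊥` -/
theorem ac_perp (T : Two Qr Qs r s P) {y : G} (hy : y ∈ Qs) (hyr : y * r = r * y) {u v : T.lr.V}
    (hu : ∀ d ∈ T.Dt, T.lr.b u d = 0) (hv : v ∈ T.Xt) : T.lr.b (T.ac hyr u + u) v = 0 := by
  have h1 := T.ac_Xt hy hyr hv
  have h2 : T.lr.b (T.ac hyr u) (T.ac hyr v) = T.lr.b u v := T.b_ac hyr u v
  -- `ac v = v + δ`, `ac δ = δ`
  have h3 : T.lr.b (T.ac hyr u) (T.ac hyr (T.ac hyr v + v)) = T.lr.b u (T.ac hyr v + v) :=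
    T.b_ac hyr _ _
  rw [T.ac_Dt hy hyr h1, hu _ h1] at h3
  rw [map_add, h2] at h3
  rw [map_add, LinearMap.add_apply, add_comm]
  exact h3

end Two

end Cfsg.Agent.LargeExtra.CC

end

section


/-!
# LEMMA CC of helper990 in Lean (helper71)

`Two.main`: `dim [V_r, s] = 2` or `dim [V_s, r] ≥ w - 2` (`|V_s| ≤ 16 |[V_s, r]|²`).
-/

set_option autoImplicit false

namespace Cfsg.Agent.LargeExtra.CC

open Cfsg.Agent.Co2Type.Quad Cfsg.Agent.LargeExtra.Base Cfsg.Agent.LargeExtra.Local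
open Cfsg.Agent.LargeExtra.KillSiegel

section lin

/-- a subspace of index at most 2 -/
theorem card_le_two {V : Type*} [AddCommGroup V] [Module (ZMod 2) V] [Finite V]
    {A B : Submodule (ZMod 2) V}
    (h : ∀ v ∈ B, ∀ w ∈ B, v ∉ A → w ∉ A → v + w ∈ A) : Nat.card B ≤ 2 * Nat.card A := by
  classical
  by_cases hex : ∃ b ∈ B, b ∉ A
  · obtain ⟨b, hb, hbA⟩ := hex
    have e : 2 * Nat.card A = Nat.card (A × Bool) := by
      rw [Nat.card_prod, Nat.card_eq_fintype_card (α := Bool), Fintype.card_bool, mul_comm]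
    rw [e]
    refine Nat.card_le_card_of_injective (fun v : B => if hv : (v : V) ∈ A then
      ((⟨v, hv⟩ : A), false) else ((⟨v + b, h v v.2 b hb hv hbA⟩ : A), true)) ?_
    intro v w hvw
    simp only at hvw
    split_ifs at hvw with h1 h2 h2
    · exact Subtype.ext (congrArg (fun p : A × Bool => (p.1 : V)) hvw)
    · exact absurd (congrArg Prod.snd hvw) (by simp)
    · exact absurd (congrArg Prod.snd hvw) (by simp)
    · have := congrArg (fun p : A × Bool => (p.1 : V)) hvw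
      exact Subtype.ext (add_right_cancel this)
  · push Not at hex
    have hle : B ≤ A := hex
    calc Nat.card B ≤ Nat.card A := Nat.card_le_card_of_injective _ (Submodule.inclusion_injective hle)
      _ ≤ 2 * Nat.card A := by omega

variable {G : Type*} [Group G] [Finite G] {Q : Subgroup G} {z : G}

theorem exists_mate (h : Large Q z) {S : Submodule (ZMod 2) h.V} {x : h.V} (hx : x ∉ S) :
    ∃ y, (∀ s ∈ S, h.b s y = 0) ∧ h.b x y = 1 := by
  by_contra hcon
  push Not at hcon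
  apply hx
  apply Perp.mem_of_perp h
  intro w hw
  rw [h.b_comm]
  rcases zmod2 (h.b x w) with h1 | h1
  · exact h1
  · exact absurd h1 (hcon w hw)

end lin

namespace Two

variable {G : Type*} [Group G] {Qr Qs : Subgroup G} {r s : G} {P : G → Prop}

/-- the bound from a totally isotropic subspace of index at most 2 of `C_{Qs}(r) / ⟨s⟩` -/
theorem bound [Finite G] (T : Two Qr Qs r s P) {S : Submodule (ZMod 2) T.symm.lr.V}
    (hidx : ∀ v ∈ T.symm.Xt, ∀ w ∈ T.symm.Xt, v ∉ S → w ∉ S → v + w ∈ S)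
    (hti : ∀ v ∈ S, ∀ w ∈ S, T.symm.lr.b v w = 0) :
    Nat.card T.symm.lr.V ≤ 16 * (Nat.card T.symm.W * Nat.card T.symm.W) := by
  have h1 : Nat.card T.symm.Xt ≤ 2 * Nat.card S := card_le_two hidx
  have h2 : Nat.card T.symm.F ≤ 2 * Nat.card T.symm.Xt :=
    card_le_two (fun v hv w hw => T.symm.add_mem_Xt hv hw)
  have h3 := T.symm.card_W_F
  have h4 := Perp.card_sq_le T.symm.lr S hti
  have h5 : Nat.card T.symm.F ≤ 4 * Nat.card S := by omega
  set v := Nat.card T.symm.lr.V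
  set f := Nat.card T.symm.F
  set w := Nat.card T.symm.W
  set c := Nat.card S
  have hv : 0 < v := Nat.card_pos
  have h6 : v * v ≤ (16 * (w * w)) * v := by
    calc v * v = (f * f) * (w * w) := by rw [← h3]; ring
      _ ≤ ((4 * c) * (4 * c)) * (w * w) := Nat.mul_le_mul_right _ (Nat.mul_le_mul h5 h5)
      _ = 16 * (w * w) * (c * c) := by ring
      _ ≤ 16 * (w * w) * v := Nat.mul_le_mul_left _ h4
  exact Nat.le_of_mul_le_mul_right h6 hv

/-- (4) `q = 0` on `W`, `X_s` not abelian: `[D̃^⊥, h] ≤ D̃` -/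
theorem perp_mem_Dt [Finite G] (T : Two Qr Qs r s P) (hq : ∀ w ∈ T.W, T.lr.q w = 0) {y y' : G}
    (hy : y ∈ Qs) (hy' : y' ∈ Qs) (hyr : y * r = r * y) (hyr' : y' * r = r * y')
    (hne : y * y' ≠ y' * y) {u : T.lr.V} (hu : ∀ d ∈ T.Dt, T.lr.b u d = 0) :
    T.h u + u ∈ T.Dt := by
  have hWX : T.W ≤ T.Xt := fun w hw => T.mem_Xt_of_q hw (hq w hw)
  -- `X̃^⊥ ≤ X̃`
  have hX : ∀ e, (∀ v ∈ T.Xt, T.lr.b e v = 0) → e ∈ T.Xt := by
    intro e he
    have heF : e ∈ T.F := T.mem_F_of fun w hw => by rw [T.lr.b_comm]; exact he w (hWX hw)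
    by_contra hcon
    apply hcon
    apply hWX
    apply T.mem_W_of
    intro v hv
    by_cases hvX : v ∈ T.Xt
    · rw [T.lr.b_comm]; exact he v hvX
    · have h1 := T.add_mem_Xt hv heF hvX hcon
      have h2 := he _ h1
      rw [map_add, T.lr.b_self, add_zero, T.lr.b_comm] at h2
      exact h2
  have e1 := hX _ (fun v hv => T.ac_perp hy hyr hu hv)
  have e2 := hX _ (fun v hv => T.ac_perp hy' hyr' hu hv)
  have d1 := T.ac_Xt hy' hyr' e1
  have d2 := T.ac_Xt hy hyr e2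
  have key := T.ac_ac hy hy' hyr hyr' hne u
  -- `y y' u = y' y (h u)`
  have hfin : T.ac hyr' (T.ac hyr (T.h u + u)) ∈ T.Dt := by
    rw [map_add, map_add, ← key]
    have : T.ac hyr (T.ac hyr' u) + T.ac hyr' (T.ac hyr u) =
        (T.ac hyr (T.ac hyr' u + u) + (T.ac hyr' u + u)) +
        (T.ac hyr' (T.ac hyr u + u) + (T.ac hyr u + u)) := by
      rw [map_add, map_add]
      have e : (T.ac hyr (T.ac hyr' u) + T.ac hyr u + (T.ac hyr' u + u)) +
        (T.ac hyr' (T.ac hyr u) + T.ac hyr' u + (T.ac hyr u + u)) =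
        T.ac hyr (T.ac hyr' u) + T.ac hyr' (T.ac hyr u) +
          ((T.ac hyr u + T.ac hyr u) + (T.ac hyr' u + T.ac hyr' u) + (u + u)) := by abel
      rw [e, T.lr.add_self, T.lr.add_self, T.lr.add_self, zero_add, T.lr.add_self, add_zero]
    rw [this]
    exact T.Dt.add_mem d2 d1
  have g1 : T.ac hyr (T.h u + u) ∈ T.Dt := by
    have h1 : T.ac hyr' (T.ac hyr (T.h u + u)) = T.ac hyr' (T.ac hyr' (T.ac hyr (T.h u + u))) :=
      (T.ac_Dt hy' hyr' hfin).symm
    rw [(T.ac hyr').injective h1]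
    exact hfin
  have g2 : T.ac hyr (T.h u + u) = T.ac hyr (T.ac hyr (T.h u + u)) := (T.ac_Dt hy hyr g1).symm
  rw [(T.ac hyr).injective g2]
  exact g1

/-- Case I -/
theorem caseI [Finite G] (T : Two Qr Qs r s P) (hq : ∀ w ∈ T.W, T.lr.q w = 0) {y y' : G}
    (hy : y ∈ Qs) (hy' : y' ∈ Qs) (hyr : y * r = r * y) (hyr' : y' * r = r * y')
    (hne : y * y' ≠ y' * y) : Nat.card T.W = 4 := by
  have h4 : ∀ u, (∀ d ∈ T.Dt, T.lr.b u d = 0) → T.h u + u ∈ T.Dt := fun u hu =>
    T.perp_mem_Dt hq hy hy' hyr hyr' hne hu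
  obtain ⟨u0, hu0⟩ := T.W_ne
  have hu0' : T.h u0 + u0 ≠ 0 := fun h => hu0 (T.add_eq_zero.1 h)
  -- `(D̃^⊥)^⊥ = D̃`
  have hDD : ∀ w, (∀ u, (∀ d ∈ T.Dt, T.lr.b u d = 0) → T.lr.b u w = 0) → w ∈ T.Dt := by
    intro w hw
    apply Perp.mem_of_perp T.lr
    intro v hv
    exact hw v fun d hd => by rw [T.lr.b_comm]; exact hv d hd
  -- a nonzero element of `D̃ ∩ W`
  obtain ⟨δ0, hδ0, hδW, hδ00⟩ : ∃ δ0 ∈ T.Dt, δ0 ∈ T.W ∧ δ0 ≠ 0 := by
    by_contra hcon
    push Not at hcon
    have hu : u0 ∈ T.F ⊔ T.lr.b.orthogonal T.Dt := by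
      apply Perp.mem_of_perp T.lr
      intro w hw
      have h1 : w ∈ T.W := T.mem_W_of fun v hv => hw v ((le_sup_left : T.F ≤ _) hv)
      have h2 : w ∈ T.Dt := hDD w fun v hv => hw v ((le_sup_right : T.lr.b.orthogonal T.Dt ≤ _)
        ((Perp.mem_perp T.lr _).2 fun d hd => by rw [T.lr.b_comm]; exact hv d hd))
      rw [hcon w h2 h1, map_zero, LinearMap.zero_apply]
    obtain ⟨c, hc, u', hu', rfl⟩ := Submodule.mem_sup.1 hu
    have h1 : T.h (c + u') + (c + u') = T.h u' + u' := by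
      rw [map_add, T.mem_F.1 hc]
      have : c + T.h u' + (c + u') = T.h u' + u' + (c + c) := by abel
      rw [this, T.lr.add_self, add_zero]
    have h2 := h4 u' fun d hd => by
      rw [T.lr.b_comm]; exact (Perp.mem_perp T.lr _).1 hu' d hd
    apply hu0'
    rw [h1]
    exact hcon _ h2 ⟨u', rfl⟩
  obtain ⟨v0, hv0⟩ := hδW
  -- claim: `b (u, δ0) = 0` implies `h u + u ∈ {0, δ0}`
  have hclaim : ∀ u, T.lr.b u δ0 = 0 → T.h u + u = 0 ∨ T.h u + u = δ0 := by
    intro u hu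
    have hin : T.h u + u ∈ T.Dt := by
      by_cases hD : ∀ δ ∈ T.Dt, δ = 0 ∨ δ = δ0
      · apply h4
        intro d hd
        rcases hD d hd with rfl | rfl
        · rw [map_zero]
        · exact hu
      · push Not at hD
        obtain ⟨δ1, hδ1, h10, h11⟩ := hD
        have hle : ∀ u', (∀ d ∈ T.Dt, T.lr.b u' d = 0) → u' ∈ T.F := by
          intro u' hu'
          by_contra hcon
          have hne : T.h u' + u' ≠ 0 := fun h => hcon (T.add_eq_zero.1 h)
          have hD' := h4 u' hu'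
          have hpre : ∀ δ ∈ T.Dt, δ ≠ 0 → T.h u' + u' ≠ δ → δ ∈ T.W → False := by
            rintro δ hδ hδ0 hδn ⟨v, hv⟩
            have := T.b_one hD' hδ rfl hv hne hδ0 hδn
            rw [hu' δ hδ] at this
            exact absurd this (by decide)
          have hDW : T.Dt ≤ T.W := by
            intro δ hδ
            apply T.mem_W_of
            intro v hv
            rw [T.lr.b_comm]
            exact T.b_Dt_Xt hδ (T.F_le_Xt hδ0 ⟨v0, hv0⟩ hδ00 hv)
          by_cases he : T.h u' + u' = δ0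
          · exact hpre δ1 hδ1 h10 (fun h => h11 (h.symm.trans he)) (hDW hδ1)
          · exact hpre δ0 hδ0 hδ00 he (hDW hδ0)
        apply hDD
        intro u' hu'
        rw [T.lr.b_comm]
        exact T.b_W_F ⟨u, rfl⟩ (hle u' hu')
    by_contra hcon
    push Not at hcon
    have := T.b_one hin hδ0 rfl hv0 hcon.1 hδ00 hcon.2
    rw [hu] at this
    exact absurd this (by decide)
  -- `|W| ≤ 4`
  have hle : Nat.card T.W ≤ 4 := by
    have h1 : Nat.card T.W ≤ 2 * Nat.card (Submodule.span (ZMod 2) ({δ0} : Set T.lr.V)) := by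
      apply card_le_two
      rintro _ ⟨u, rfl⟩ _ ⟨u', rfl⟩ hu hu'
      have key : ∀ u, T.h u + u ∉ Submodule.span (ZMod 2) ({δ0} : Set T.lr.V) → T.lr.b u δ0 = 1 := by
        intro u hu
        rcases zmod2 (T.lr.b u δ0) with h1 | h1
        · exfalso
          apply hu
          rcases hclaim u h1 with h2 | h2
          · rw [h2]; exact Submodule.zero_mem _
          · rw [h2]; exact Submodule.mem_span_singleton_self δ0
        · exact h1
      have h2 : T.lr.b (u + u') δ0 = 0 := by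
        rw [map_add, LinearMap.add_apply, key u hu, key u' hu']; decide
      have h3 : T.h u + u + (T.h u' + u') = T.h (u + u') + (u + u') := by rw [map_add]; abel
      rw [h3]
      rcases hclaim _ h2 with h4 | h4
      · rw [h4]; exact Submodule.zero_mem _
      · rw [h4]; exact Submodule.mem_span_singleton_self δ0
    have h2 : Nat.card (Submodule.span (ZMod 2) ({δ0} : Set T.lr.V)) ≤ 2 := by
      have : Function.Surjective (fun c : ZMod 2 =>
          (⟨c • δ0, Submodule.mem_span_singleton.2 ⟨c, rfl⟩⟩ :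
            Submodule.span (ZMod 2) ({δ0} : Set T.lr.V))) := by
        rintro ⟨y, hy⟩
        obtain ⟨c, rfl⟩ := Submodule.mem_span_singleton.1 hy
        exact ⟨c, rfl⟩
      have := Nat.card_le_card_of_surjective _ this
      rwa [Nat.card_zmod] at this
    omega
  -- `|W| ≥ 3`
  have hge : 2 < Nat.card T.W := by
    by_contra hcon
    -- `W = {0, w}`
    have hw : ∀ w ∈ T.W, w = 0 ∨ w = T.h u0 + u0 := by
      intro w hw
      by_contra hc
      push Not at hc
      have hinj : Function.Injective (![⟨0, T.W.zero_mem⟩, ⟨T.h u0 + u0, ⟨u0, rfl⟩⟩, ⟨w, hw⟩] :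
          Fin 3 → T.W) := by
        intro i j hij
        fin_cases i <;> fin_cases j <;> simp only [Fin.mk_zero, Fin.mk_one, Matrix.cons_val_zero,
          Matrix.cons_val_one, Fin.reduceFinMk, Matrix.cons_val, Subtype.mk.injEq] at hij ⊢
        · exact absurd (congrArg Subtype.val hij).symm hu0'
        · exact absurd hij.symm hc.1
        · exact absurd (congrArg Subtype.val hij) hu0'
        · exact absurd (congrArg Subtype.val hij).symm hc.2
        · exact absurd hij hc.1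
        · exact absurd (congrArg Subtype.val hij) hc.2
      have := Nat.card_le_card_of_injective _ hinj
      rw [Nat.card_eq_fintype_card (α := Fin 3), Fintype.card_fin] at this
      omega
    apply hu0
    apply T.mem_F_of
    intro w hw'
    rcases hw w hw' with rfl | rfl
    · rw [map_zero, LinearMap.zero_apply]
    · have h1 := hq _ hw'
      rw [T.lr.q_add', T.q_h] at h1
      rw [map_add, LinearMap.add_apply, T.lr.b_self, add_zero]
      have : ∀ a b : ZMod 2, a + a + b = 0 → b = 0 := by decide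
      exact this _ _ h1
  have hfd : FiniteDimensional (ZMod 2) T.W := Module.Finite.of_finite
  have hp := Module.natCard_eq_pow_finrank (K := ZMod 2) (V := T.W)
  rw [Nat.card_zmod] at hp
  rw [hp] at hle hge ⊢
  have h1 : Module.finrank (ZMod 2) T.W < 3 := by
    by_contra hcon
    have : 2 ^ 3 ≤ 2 ^ Module.finrank (ZMod 2) T.W := Nat.pow_le_pow_right (by norm_num) (by omega)
    omega
  interval_cases Module.finrank (ZMod 2) T.W <;> omega

/-- Case II -/
theorem caseII [Finite G] (T : Two Qr Qs r s P) {w0 : T.lr.V} (hw0 : w0 ∈ T.W)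
    (hq0 : T.lr.q w0 ≠ 0) :
    Nat.card T.symm.lr.V ≤ 16 * (Nat.card T.symm.W * Nat.card T.symm.W) := by
  have hq1 : T.lr.q w0 = 1 := by
    rcases zmod2 (T.lr.q w0) with h | h
    · exact absurd h hq0
    · exact h
  have hwX : w0 ∉ T.Xt := fun h => hq0 (T.q_W hw0 h)
  -- `D̃ = 0`
  have hD : ∀ d ∈ T.Dt, d = 0 := by
    intro d hd
    by_contra h0
    have hdF := T.Xt_le_F (T.Dt_le_Xt hd)
    have hdW : d ∈ T.W := by
      apply T.mem_W_of
      intro v hv
      by_cases hvX : v ∈ T.Xt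
      · rw [T.lr.b_comm]; exact T.b_Dt_Xt hd hvX
      · have h1 := T.add_mem_Xt hv (T.W_le_F hw0) hvX hwX
        have h2 := T.b_Dt_Xt hd h1
        rw [map_add, T.lr.b_comm d w0, T.b_W_F hw0 hdF, add_zero, T.lr.b_comm] at h2
        exact h2
    exact hwX (T.F_le_Xt hd hdW h0 (T.W_le_F hw0))
  obtain ⟨t, ht, hwt⟩ := exists_mate T.lr hwX
  have htD : ∀ d ∈ T.Dt, T.lr.b t d = 0 := fun d hd => by rw [hD d hd, map_zero]
  have hbWW : ∀ w ∈ T.W, ∀ w' ∈ T.W, T.lr.b w w' = 0 := fun w hw w' hw' =>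
    T.b_W_F hw (T.W_le_F hw')
  -- `ac y` on `X̃`, `W`
  have hacX : ∀ {y : G} (_ : y ∈ Qs) (hyr : y * r = r * y) (v : T.lr.V), v ∈ T.Xt →
      T.ac hyr v = v := by
    intro y hy hyr v hv
    have := hD _ (T.ac_Xt hy hyr hv)
    exact T.add_eq_zero.1 this
  have hach : ∀ {y : G} (_ : y ∈ Qs) (hyr : y * r = r * y) (v : T.lr.V),
      T.ac hyr (T.h v) = T.h (T.ac hyr v) := by
    intro y hy hyr v
    obtain ⟨x, rfl⟩ := T.lr.pr_surjective v
    rw [T.h_pr, T.ac_pr, T.ac_pr, T.h_pr]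
    congr 1
    apply Subtype.ext
    show y * (s * (x : G) * s⁻¹) * y⁻¹ = s * (y * (x : G) * y⁻¹) * s⁻¹
    have hys : y * s = s * y := T.ls.comm_z y hy
    calc y * (s * (x : G) * s⁻¹) * y⁻¹ = (y * s) * x * (y * s)⁻¹ := by group
      _ = s * (y * (x : G) * y⁻¹) * s⁻¹ := by rw [hys]; group
  have hacW : ∀ {y : G} (_ : y ∈ Qs) (hyr : y * r = r * y) (w : T.lr.V), w ∈ T.W →
      T.ac hyr w ∈ T.W := by
    rintro y hy hyr _ ⟨u, rfl⟩
    refine ⟨T.ac hyr u, ?_⟩
    rw [map_add, hach hy]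
  have hacq : ∀ {y : G} (hyr : y * r = r * y) (v : T.lr.V), T.lr.q (T.ac hyr v) = T.lr.q v :=
    fun hyr v => T.lr.q_act _ v
  -- the element `e_y = y t + t` lies in `W`
  have heW : ∀ {y : G} (_ : y ∈ Qs) (hyr : y * r = r * y), T.ac hyr t + t ∈ T.W := by
    intro y hy hyr
    apply T.mem_W_of
    have hX : ∀ v ∈ T.Xt, T.lr.b v (T.ac hyr t + t) = 0 := fun v hv => by
      rw [T.lr.b_comm]; exact T.ac_perp hy hyr htD hv
    have h0 : T.lr.b w0 (T.ac hyr t + t) = 0 := by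
      -- `b (y w0, y t) = b (w0, t)`, `y w0 + w0 ∈ X̃`
      have h1 := T.b_ac hyr w0 t
      have h2 : T.ac hyr w0 + w0 ∈ T.Xt := by
        apply T.mem_Xt_of_q (T.W.add_mem (hacW hy hyr w0 hw0) hw0)
        rw [T.lr.q_add', hacq, hbWW _ (hacW hy hyr w0 hw0) _ hw0, add_zero]
        exact CharTwo.add_self_eq_zero _
      have h3 := hX _ h2
      have h4 : T.lr.b (T.ac hyr w0 + w0) t = 0 := ht _ h2
      rw [map_add] at h3
      rw [h4, add_zero, map_add, LinearMap.add_apply, h1] at h3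
      rw [map_add, add_comm]
      exact h3
    intro v hv
    by_cases hvX : v ∈ T.Xt
    · exact hX v hvX
    · have h1 := hX _ (T.add_mem_Xt hv (T.W_le_F hw0) hvX hwX)
      have h2 : T.lr.b (v + w0) (T.ac hyr t + t) =
          T.lr.b v (T.ac hyr t + t) + T.lr.b w0 (T.ac hyr t + t) := by
        rw [map_add T.lr.b, LinearMap.add_apply]
      rw [h2, h0, add_zero] at h1
      exact h1
  have hmul : ∀ {y y' : G} (hy : y ∈ Qs) (hyr : y * r = r * y) (hy' : y' ∈ Qs)
      (hyr' : y' * r = r * y') (h : y * y' * r = r * (y * y')),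
      T.lr.q (T.ac h t + t) = T.lr.q (T.ac hyr t + t) + T.lr.q (T.ac hyr' t + t) := by
    intro y y' hy hyr hy' hyr' h
    have e : T.ac h t + t = (T.ac hyr t + t) + T.ac hyr (T.ac hyr' t + t) := by
      rw [T.ac_mul hyr hyr' h, map_add]
      have : T.ac hyr t + t + (T.ac hyr (T.ac hyr' t) + T.ac hyr t) =
        T.ac hyr (T.ac hyr' t) + t + (T.ac hyr t + T.ac hyr t) := by abel
      rw [this, T.lr.add_self, add_zero]
    rw [e, T.lr.q_add', hacq, hbWW _ (heW hy hyr) _ (hacW hy hyr _ (heW hy' hyr')), add_zero]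
  let S : Submodule (ZMod 2) T.symm.lr.V :=
    { carrier := {v | ∃ (y : Qs) (hy : (y : G) * r = r * y), T.lr.q (T.ac hy t + t) = 0 ∧
        T.symm.lr.pr y = v}
      zero_mem' := by
        refine ⟨1, by simp, ?_, T.symm.lr.pr_one⟩
        have e : T.ac (y := ((1 : Qs) : G)) (by simp) t = t := by
          obtain ⟨x, rfl⟩ := T.lr.pr_surjective t
          rw [T.ac_pr]
          congr 1
          apply Subtype.ext
          simp
        rw [e, T.lr.add_self, T.lr.q_zero]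
      add_mem' := by
        rintro _ _ ⟨y, hy, hq, rfl⟩ ⟨y', hy', hq', rfl⟩
        refine ⟨y * y', ?_, ?_, T.symm.lr.pr_mul y y'⟩
        · show (y : G) * y' * r = r * (y * y')
          rw [mul_assoc, hy', ← mul_assoc, hy, mul_assoc]
        · rw [hmul y.2 hy y'.2 hy', hq, hq', add_zero]
      smul_mem' := by
        rintro c v hv
        rcases zmod2 c with rfl | rfl
        · rw [zero_smul]
          refine ⟨1, by simp, ?_, T.symm.lr.pr_one⟩
          have e : T.ac (y := ((1 : Qs) : G)) (by simp) t = t := by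
            obtain ⟨x, rfl⟩ := T.lr.pr_surjective t
            rw [T.ac_pr]
            congr 1
            apply Subtype.ext
            simp
          rw [e, T.lr.add_self, T.lr.q_zero]
        · rw [one_smul]; exact hv }
  apply T.bound (S := S)
  · intro v hv w hw hvS hwS
    obtain ⟨y, rfl⟩ := T.symm.lr.pr_surjective v
    obtain ⟨y', rfl⟩ := T.symm.lr.pr_surjective w
    rw [T.symm.pr_mem_Xt] at hv hw
    have key : ∀ (y : Qs) (hy : (y : G) * r = r * y), T.symm.lr.pr y ∉ S →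
        T.lr.q (T.ac hy t + t) = 1 := by
      intro y hy hS
      rcases zmod2 (T.lr.q (T.ac hy t + t)) with h | h
      · exact absurd ⟨y, hy, h, rfl⟩ hS
      · exact h
    have hyy : (y : G) * y' * r = r * (y * y') := by
      rw [mul_assoc, hw, ← mul_assoc, hv, mul_assoc]
    refine ⟨y * y', hyy, ?_, T.symm.lr.pr_mul y y'⟩
    rw [hmul y.2 hv y'.2 hw, key y hv hvS, key y' hw hwS]
    decide
  · rintro _ ⟨y, hy, hq, rfl⟩ _ ⟨y', hy', hq', rfl⟩
    rw [T.symm.lr.b_pr]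
    by_contra hne
    have key := T.ac_ac y.2 y'.2 hy hy' hne t
    have e1 : T.ac hy (T.ac hy' t) = T.ac hy' (T.ac hy t) := by
      have h1 : T.ac hy' t + t ∈ T.Xt := T.mem_Xt_of_q (heW y'.2 hy') hq'
      have h2 : T.ac hy t + t ∈ T.Xt := T.mem_Xt_of_q (heW y.2 hy) hq
      have h3 := hacX y.2 hy _ h1
      have h4 := hacX y'.2 hy' _ h2
      rw [map_add] at h3 h4
      have h5 : T.ac hy (T.ac hy' t) = T.ac hy' t + t + T.ac hy t := by
        rw [← h3, add_assoc, T.lr.add_self, add_zero]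
      have h6 : T.ac hy' (T.ac hy t) = T.ac hy t + t + T.ac hy' t := by
        rw [← h4, add_assoc, T.lr.add_self, add_zero]
      rw [h5, h6]
      abel
    rw [e1] at key
    have h7 := (T.ac hy).injective ((T.ac hy').injective key)
    have h8 : t ∈ T.F := T.mem_F.2 h7.symm
    have h9 := T.b_W_F hw0 h8
    rw [hwt] at h9
    exact absurd h9 (by decide)

/-- **LEMMA CC.** -/
theorem main [Finite G] (T : Two Qr Qs r s P) : Nat.card T.W = 4 ∨
    Nat.card T.symm.lr.V ≤ 16 * (Nat.card T.symm.W * Nat.card T.symm.W) := by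
  by_cases hq : ∀ w ∈ T.W, T.lr.q w = 0
  · by_cases hab : ∀ y ∈ Qs, ∀ y' ∈ Qs, y * r = r * y → y' * r = r * y' → y * y' = y' * y
    · right
      apply T.bound (S := T.symm.Xt)
      · intro v hv w _ hv' _
        exact absurd hv hv'
      · intro v hv w hw
        obtain ⟨y, rfl⟩ := T.symm.lr.pr_surjective v
        obtain ⟨y', rfl⟩ := T.symm.lr.pr_surjective w
        rw [T.symm.pr_mem_Xt] at hv hw
        rw [T.symm.lr.b_pr]
        exact hab y y.2 y' y'.2 hv hw
    · left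
      push Not at hab
      obtain ⟨y, hy, y', hy', hyr, hyr', hne⟩ := hab
      exact T.caseI hq hy hy' hyr hyr' hne
  · right
    push Not at hq
    obtain ⟨w0, hw0, hq0⟩ := hq
    exact T.caseII hw0 hq0

end Two

end Cfsg.Agent.LargeExtra.CC

end

section


/-!
# `|Qr ∩ Qs| ≤ 4` for commuting conjugates in different components (helper862, after helper990's LEMMA CC (3))
-/

set_option autoImplicit false

namespace Cfsg.Agent.LargeExtra.CC.Dt

open Cfsg.Agent.Co2Type.Quad Cfsg.Agent.LargeExtra.Base Cfsg.Agent.LargeExtra.Local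
open Cfsg.Agent.LargeExtra.CC

variable {G : Type*} [Group G] {Qr Qs : Subgroup G} {r s : G} {P : G → Prop}

theorem zmod2' (a : ZMod 2) : a = 0 ∨ a = 1 := by revert a; decide

/-- if `D~` meets `W` nontrivially then `D~ ≤ W` -/
theorem Dt_le_W [Finite G] (T : Two Qr Qs r s P) {δ : T.lr.V} (hδ : δ ∈ T.Dt) (hW : δ ∈ T.W) (h0 : δ ≠ 0) :
    T.Dt ≤ T.W := by
  intro d hd
  apply T.mem_W_of
  intro v hv
  rw [T.lr.b_comm]
  exact T.b_Dt_Xt hd (T.F_le_Xt hδ hW h0 hv)

/-- if `D~` meets `W` nontrivially then `q = 0` on `W` -/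
theorem q_W_of_Dt [Finite G] (T : Two Qr Qs r s P) {δ : T.lr.V} (hδ : δ ∈ T.Dt) (hW : δ ∈ T.W) (h0 : δ ≠ 0) :
    ∀ w ∈ T.W, T.lr.q w = 0 :=
  fun _ hw => T.q_W hw (T.F_le_Xt hδ hW h0 (T.W_le_F hw))

/-- the nonzero elements of `D~` when `D~ ∩ W = 0` -/
theorem Dt_eq_of [Finite G] (T : Two Qr Qs r s P) (hn : ∀ δ ∈ T.Dt, δ ∈ T.W → δ = 0) {d d' : T.lr.V}
    (hd : d ∈ T.Dt) (hd' : d' ∈ T.Dt) (h0 : d ≠ 0) (h0' : d' ≠ 0) : d = d' := by
  -- `d + d'` is orthogonal to `F`
  have h1 : d + d' ∈ T.W := by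
    apply T.mem_W_of
    intro v hv
    rw [T.lr.b_comm]
    by_cases hvX : v ∈ T.Xt
    · exact T.b_Dt_Xt (add_mem hd hd') hvX
    · have key : ∀ e ∈ T.Dt, e ≠ 0 → T.lr.b e v = 1 := by
        intro e he he0
        rcases zmod2' (T.lr.b e v) with h2 | h2
        · exfalso
          apply he0
          apply hn e he
          apply T.mem_W_of
          intro w hw
          rw [T.lr.b_comm]
          by_cases hwX : w ∈ T.Xt
          · exact T.b_Dt_Xt he hwX
          · have h3 : v + w ∈ T.Xt := T.add_mem_Xt hv hw hvX hwX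
            have h4 := T.b_Dt_Xt he h3
            rw [map_add, h2, zero_add] at h4
            exact h4
        · exact h2
      rw [map_add, LinearMap.add_apply, key d hd h0, key d' hd' h0']
      decide
  have h2 := hn _ (add_mem hd hd') h1
  exact T.add_eq_zero.1 h2

theorem card_le_four {V : Type*} [AddCommGroup V] [Module (ZMod 2) V] [Finite V] (D : Submodule (ZMod 2) V)
    (a b : V) (h : ∀ d ∈ D, d = 0 ∨ d = a ∨ d = b ∨ d = a + b) : Nat.card D ≤ 4 := by
  classical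
  have h1 : (D : Set V) ⊆ (({0, a, b, a + b} : Finset V) : Set V) := by
    intro d hd
    rcases h d hd with h2 | h2 | h2 | h2 <;> simp [h2]
  calc Nat.card D = Nat.card (D : Set V) := rfl
    _ ≤ Nat.card ((({0, a, b, a + b} : Finset V) : Set V)) :=
        Nat.card_mono (Finset.finite_toSet _) h1
    _ = ({0, a, b, a + b} : Finset V).card := by simp
    _ ≤ 4 := by
        refine (Finset.card_insert_le _ _).trans ?_
        refine Nat.succ_le_succ ((Finset.card_insert_le _ _).trans ?_)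
        refine Nat.succ_le_succ ((Finset.card_insert_le _ _).trans ?_)
        simp

theorem card_le_two' {V : Type*} [AddCommGroup V] [Module (ZMod 2) V] [Finite V] (D : Submodule (ZMod 2) V)
    (a : V) (h : ∀ d ∈ D, d = 0 ∨ d = a) : Nat.card D ≤ 2 := by
  classical
  have h1 : (D : Set V) ⊆ (({0, a} : Finset V) : Set V) := by
    intro d hd
    rcases h d hd with h2 | h2 <;> simp [h2]
  calc Nat.card D = Nat.card (D : Set V) := rfl
    _ ≤ Nat.card ((({0, a} : Finset V) : Set V)) := Nat.card_mono (Finset.finite_toSet _) h1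
    _ = ({0, a} : Finset V).card := by simp
    _ ≤ 2 := Finset.card_le_two

/-- `|D~| ≤ 2` if `D~ ∩ W = 0` -/
theorem card_Dt_le_two [Finite G] (T : Two Qr Qs r s P) (hn : ∀ δ ∈ T.Dt, δ ∈ T.W → δ = 0) :
    Nat.card T.Dt ≤ 2 := by
  by_cases h : ∀ d ∈ T.Dt, d = 0
  · exact card_le_two' T.Dt 0 (fun d hd => Or.inl (h d hd))
  · push Not at h
    obtain ⟨a, ha, ha0⟩ := h
    refine card_le_two' T.Dt a (fun d hd => ?_)
    by_cases hd0 : d = 0
    · exact Or.inl hd0
    · exact Or.inr (Dt_eq_of T hn hd ha hd0 ha0)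

/-- **(3)**: `|D~| ≤ 4` -/
theorem card_Dt_le [Finite G] (T : Two Qr Qs r s P) : Nat.card T.Dt ≤ 4 := by
  by_cases hn : ∀ δ ∈ T.Dt, δ ∈ T.W → δ = 0
  · exact (card_Dt_le_two T hn).trans (by norm_num)
  · push Not at hn
    obtain ⟨a, ha, haW, ha0⟩ := hn
    have hW := Dt_le_W T ha haW ha0
    by_cases h : ∀ d ∈ T.Dt, d = 0 ∨ d = a
    · exact (card_le_two' T.Dt a h).trans (by norm_num)
    · push Not at h
      obtain ⟨b, hb, hb0, hba⟩ := h
      refine card_le_four T.Dt a b (fun d hd => ?_)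
      by_contra hcon
      push Not at hcon
      obtain ⟨h1, h2, h3, h4⟩ := hcon
      obtain ⟨u, hu⟩ := T.mem_W.1 (hW ha)
      obtain ⟨w, hw⟩ := T.mem_W.1 (hW hb)
      obtain ⟨x, hx⟩ := T.mem_W.1 (hW hd)
      obtain ⟨y, hy⟩ := T.mem_W.1 (hW (add_mem hb hd))
      have e1 := T.b_one ha hb hu hw ha0 hb0 (Ne.symm hba)
      have e2 := T.b_one ha hd hu hx ha0 h1 (Ne.symm h2)
      have h5 : b + d ≠ 0 := fun e => h3 (T.add_eq_zero.1 e).symm
      have h6 : a ≠ b + d := by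
        intro e
        apply h4
        rw [e, add_comm b d, add_assoc, T.add_eq_zero.2 rfl, add_zero]
      have e3 := T.b_one ha (add_mem hb hd) hu hy ha0 h5 h6
      rw [map_add, e1, e2] at e3
      exact absurd e3 (by decide)

/-- `|Qr ∩ Qs| ≤ 4` -/
theorem card_le [Finite G] (T : Two Qr Qs r s P) : Nat.card (Qr ⊓ Qs : Subgroup G) ≤ 4 := by
  refine le_trans ?_ (card_Dt_le T)
  have f : ∀ x : (Qr ⊓ Qs : Subgroup G), T.lr.pr ⟨x, x.2.1⟩ ∈ T.Dt := fun x => ⟨⟨x, x.2.1⟩, x.2.2, rfl⟩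
  refine Nat.card_le_card_of_injective (fun x => (⟨T.lr.pr ⟨x, x.2.1⟩, f x⟩ : T.Dt)) ?_
  intro x y hxy
  have h1 : T.lr.pr ⟨x, x.2.1⟩ = T.lr.pr ⟨y, y.2.1⟩ := congrArg Subtype.val hxy
  rcases T.lr.pr_eq_pr.1 h1 with h2 | h2
  · exact Subtype.ext h2
  · exfalso
    apply T.hr
    have h3 : (x : G) = y * r := h2
    have h4 : r = (y : G)⁻¹ * x := by rw [h3, inv_mul_cancel_left]
    rw [h4]
    exact mul_mem (inv_mem y.2.2) x.2.2

end Cfsg.Agent.LargeExtra.CC.Dt

end

section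


/-!
# Row `D_n` of LEMMA CC (#13336 helper298, #13367 helper146): the tensor structure

`Ten h e`: `V = N ⊗ U`, `N` of order 4 with nonzero vectors `n_0, n_1, n_2`, `e i u = n_i ⊗ u`; every element of `C(z)`
acts as `σ ⊗ g`, `σ ∈ Sym(3)`; some element acts as `ω ⊗ 1`, `ω` of order 3; `q (e i u) = 0`.
-/

set_option autoImplicit false

namespace Cfsg.Agent.Omega.All.DN

open Cfsg.Agent.Co2Type.Quad Subgroup

universe u v

variable {G : Type u} [Group G] {Q : Subgroup G} {z : G}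

/-- `V = N ⊗ U` -/
structure Ten (h : Large Q z) {U : Type v} [AddCommGroup U] (e : Fin 3 → U → h.V) : Prop where
  add : ∀ i u u', e i (u + u') = e i u + e i u'
  sum : ∀ u, e 0 u + e 1 u + e 2 u = 0
  inj01 : ∀ a b, e 0 a + e 1 b = 0 → a = 0 ∧ b = 0
  surj01 : ∀ v, ∃ a b, v = e 0 a + e 1 b
  q_e : ∀ i u, h.q (e i u) = 0
  act_ex : ∀ c, ∃ (σ : Equiv.Perm (Fin 3)) (g : U → U), ∀ i u, h.act c (e i u) = e (σ i) (g u)
  th_ex : ∃ c, ∃ σ : Equiv.Perm (Fin 3), σ ≠ 1 ∧ σ * σ * σ = 1 ∧ ∀ i u, h.act c (e i u) = e (σ i) u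
  nt : ∃ u : U, u ≠ 0

namespace Ten

variable {h : Large Q z} {U : Type v} [AddCommGroup U] {e : Fin 3 → U → h.V} (t : Ten h e)
include t

theorem e_zero (i : Fin 3) : e i 0 = 0 := by
  have := t.add i 0 0
  rw [add_zero] at this
  exact left_eq_add.1 this

/-- `e i u + e j u = e k u` -/
theorem third {i j k : Fin 3} (hij : i ≠ j) (hik : i ≠ k) (hjk : j ≠ k) (u : U) :
    e i u + e j u = e k u := by
  have key : ∀ i j k : Fin 3, i ≠ j → i ≠ k → j ≠ k → e i u + e j u + e k u = e 0 u + e 1 u + e 2 u := by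
    intro i j k
    fin_cases i <;> fin_cases j <;> fin_cases k <;> intro h1 h2 h3 <;>
      first
        | exact absurd rfl h1
        | exact absurd rfl h2
        | exact absurd rfl h3
        | rfl
        | (simp only [Fin.zero_eta, Fin.mk_one, Fin.reduceFinMk]; abel)
  have h1 := key i j k hij hik hjk
  rw [t.sum] at h1
  rw [add_eq_zero_iff_eq_neg, h.neg_eq] at h1
  exact h1

theorem inj {i j : Fin 3} (hij : i ≠ j) {a b : U} (hab : e i a + e j b = 0) : a = 0 ∧ b = 0 := by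
  have e2 : ∀ u, e 2 u = e 0 u + e 1 u := fun u => (t.third (by decide) (by decide) (by decide) u).symm
  have uu : ∀ u : U, u + u = 0 := by
    intro u
    have h1 : e 0 (u + u) + e 1 0 = 0 := by rw [t.add, t.e_zero, h.add_self, add_zero]
    exact (t.inj01 _ _ h1).1
  have nn : ∀ u : U, -u = u := fun u => neg_eq_of_add_eq_zero_left (uu u)
  fin_cases i <;> fin_cases j <;> simp only [Fin.zero_eta, Fin.mk_one, Fin.reduceFinMk] at hab hij
  · exact absurd rfl hij
  · exact t.inj01 _ _ hab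
  · rw [e2, ← add_assoc, ← t.add] at hab
    have h1 := t.inj01 _ _ hab
    obtain ⟨h2, rfl⟩ := h1
    rw [add_zero] at h2
    exact ⟨h2, rfl⟩
  · rw [add_comm] at hab
    exact (t.inj01 _ _ hab).symm
  · exact absurd rfl hij
  · rw [e2, add_left_comm, ← t.add] at hab
    obtain ⟨rfl, h2⟩ := t.inj01 _ _ hab
    rw [add_zero] at h2
    exact ⟨h2, rfl⟩
  · rw [e2, add_right_comm, ← t.add] at hab
    obtain ⟨h2, rfl⟩ := t.inj01 _ _ hab
    rw [zero_add] at h2
    exact ⟨rfl, h2⟩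
  · rw [e2, add_assoc, ← t.add] at hab
    obtain ⟨rfl, h2⟩ := t.inj01 _ _ hab
    rw [zero_add] at h2
    exact ⟨rfl, h2⟩
  · exact absurd rfl hij

theorem add_self (u : U) : u + u = 0 := by
  have h1 : e 0 (u + u) + e 1 0 = 0 := by rw [t.add, t.e_zero, h.add_self, add_zero]
  exact (t.inj01 _ _ h1).1

theorem neg_eq (u : U) : -u = u := neg_eq_of_add_eq_zero_left (t.add_self u)

theorem add_eq_zero {u u' : U} : u + u' = 0 ↔ u = u' := by rw [add_eq_zero_iff_eq_neg, t.neg_eq]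

theorem inj1 {i : Fin 3} {u u' : U} (hu : e i u = e i u') : u = u' := by
  obtain ⟨j, hj⟩ : ∃ j : Fin 3, i ≠ j := (by decide : ∀ i : Fin 3, ∃ j : Fin 3, i ≠ j) i
  have h1 : e i (u + u') + e j 0 = 0 := by
    rw [t.add, t.e_zero, hu, h.add_self, add_zero]
  exact t.add_eq_zero.1 (t.inj hj h1).1

theorem eq_zero {i j : Fin 3} (hij : i ≠ j) {u u' : U} (hu : e i u = e j u') : u = 0 := by
  have h1 : e i u + e j u' = 0 := by rw [hu, h.add_self]
  exact (t.inj hij h1).1

/-- uniqueness of coordinates -/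
theorem uniq {i j : Fin 3} (hij : i ≠ j) {a b a' b' : U} (he : e i a + e j b = e i a' + e j b') :
    a = a' ∧ b = b' := by
  have h1 : e i (a + a') + e j (b + b') = 0 := by
    rw [t.add, t.add]
    have : e i a + e i a' + (e j b + e j b') = (e i a + e j b) + (e i a' + e j b') := by abel
    rw [this, he, h.add_self]
  obtain ⟨h2, h3⟩ := t.inj hij h1
  exact ⟨t.add_eq_zero.1 h2, t.add_eq_zero.1 h3⟩

theorem surj {i j : Fin 3} (hij : i ≠ j) (v : h.V) : ∃ a b, v = e i a + e j b := by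
  obtain ⟨a, b, rfl⟩ := t.surj01 v
  have e2 : ∀ u, e 2 u = e 0 u + e 1 u := fun u => (t.third (by decide) (by decide) (by decide) u).symm
  have e2' : ∀ u, e 0 u = e 1 u + e 2 u := fun u => (t.third (by decide) (by decide) (by decide) u).symm
  have e2'' : ∀ u, e 1 u = e 0 u + e 2 u := fun u => (t.third (by decide) (by decide) (by decide) u).symm
  fin_cases i <;> fin_cases j <;> simp only [Fin.zero_eta, Fin.mk_one, Fin.reduceFinMk] at hij ⊢
  · exact absurd rfl hij
  · exact ⟨a, b, rfl⟩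
  · exact ⟨a + b, b, by rw [e2'' b, t.add]; abel⟩
  · exact ⟨b, a, add_comm _ _⟩
  · exact absurd rfl hij
  · exact ⟨a + b, a, by rw [e2' a, t.add]; abel⟩
  · exact ⟨b, a + b, by rw [e2'' b, t.add]; abel⟩
  · exact ⟨a, a + b, by rw [e2' a, t.add]; abel⟩
  · exact absurd rfl hij

/-! ### the form on `U` -/

omit t in
/-- the form on `U` -/
noncomputable def B (_t : Ten h e) (u u' : U) : ZMod 2 := h.b (e 0 u) (e 1 u')

theorem b_same (i : Fin 3) (u u' : U) : h.b (e i u) (e i u') = 0 := by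
  have h1 := h.q_add' (e i u) (e i u')
  rw [← t.add, t.q_e, t.q_e, t.q_e, zero_add, zero_add] at h1
  exact h1.symm

theorem B_self (u : U) : t.B u u = 0 := by
  have h1 := h.q_add' (e 0 u) (e 1 u)
  rw [t.third (k := 2) (by decide) (by decide) (by decide), t.q_e, t.q_e, t.q_e, zero_add, zero_add] at h1
  exact h1.symm

theorem B_add_left (u u' w : U) : t.B (u + u') w = t.B u w + t.B u' w := by
  unfold B
  rw [t.add, map_add, LinearMap.add_apply]

theorem B_add_right (u w w' : U) : t.B u (w + w') = t.B u w + t.B u w' := by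
  unfold B
  rw [t.add, map_add]

theorem B_comm (u w : U) : t.B u w = t.B w u := by
  have h1 := t.B_self (u + w)
  rw [t.B_add_left, t.B_add_right, t.B_add_right, t.B_self, t.B_self, zero_add, add_zero] at h1
  have : ∀ a b : ZMod 2, a + b = 0 → a = b := by decide
  exact this _ _ h1

theorem b_ne {i j : Fin 3} (hij : i ≠ j) (u u' : U) : h.b (e i u) (e j u') = t.B u u' := by
  have e2 : ∀ u, e 2 u = e 0 u + e 1 u := fun u => (t.third (by decide) (by decide) (by decide) u).symm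
  fin_cases i <;> fin_cases j <;> simp only [Fin.zero_eta, Fin.mk_one, Fin.reduceFinMk] at hij ⊢
  · exact absurd rfl hij
  · rfl
  · rw [e2, map_add, t.b_same, zero_add]; rfl
  · rw [h.b_comm, t.B_comm]; rfl
  · exact absurd rfl hij
  · rw [e2, map_add, t.b_same, add_zero, h.b_comm, t.B_comm]; rfl
  · rw [e2, map_add, LinearMap.add_apply, t.b_same, zero_add, h.b_comm, t.B_comm]; rfl
  · rw [e2, map_add, LinearMap.add_apply, t.b_same, add_zero]; rfl
  · exact absurd rfl hij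

theorem B_nondeg {u : U} (hu : ∀ w, t.B u w = 0) : u = 0 := by
  have h1 : e 0 u = 0 := by
    apply h.b_nondeg
    intro v
    obtain ⟨a, b, rfl⟩ := t.surj01 v
    rw [map_add, t.b_same, zero_add]
    exact hu b
  exact t.inj1 (h1.trans (t.e_zero 0).symm)

theorem exists_B {u : U} (hu : u ≠ 0) : ∃ w, t.B u w = 1 := by
  by_contra hcon
  push Not at hcon
  apply hu
  apply t.B_nondeg
  intro w
  have : ∀ a : ZMod 2, a ≠ 1 → a = 0 := by decide
  exact this _ (hcon w)

theorem B_zero_left (w : U) : t.B 0 w = 0 := by unfold B; rw [t.e_zero, map_zero, LinearMap.zero_apply]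

theorem card_V [Finite Q] : Nat.card h.V = Nat.card U * Nat.card U := by
  rw [← Nat.card_prod]
  symm
  refine Nat.card_congr (Equiv.ofBijective (fun p : U × U => e 0 p.1 + e 1 p.2) ⟨?_, ?_⟩)
  · rintro ⟨a, b⟩ ⟨a', b'⟩ hab
    obtain ⟨rfl, rfl⟩ := t.uniq (by decide) hab
    rfl
  · intro v
    obtain ⟨a, b, rfl⟩ := t.surj01 v
    exact ⟨(a, b), rfl⟩

theorem finite_U [Finite Q] : Finite U := by
  refine Finite.of_injective (fun u => e 0 u) fun u u' hu => t.inj1 hu

/-! ### the action -/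

omit t in
/-- the component in `Sym(3)` -/
noncomputable def sg (t : Ten h e) (c : centralizer ({z} : Set G)) : Equiv.Perm (Fin 3) :=
  (t.act_ex c).choose

omit t in
/-- the component on `U` -/
noncomputable def gg (t : Ten h e) (c : centralizer ({z} : Set G)) : U → U :=
  (t.act_ex c).choose_spec.choose

theorem act_e (c : centralizer ({z} : Set G)) (i : Fin 3) (u : U) :
    h.act c (e i u) = e (t.sg c i) (t.gg c u) := (t.act_ex c).choose_spec.choose_spec i u

theorem act_uniq {σ σ' : Equiv.Perm (Fin 3)} {g g' : U → U} {f : h.V ≃ₗ[ZMod 2] h.V}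
    (h1 : ∀ i u, f (e i u) = e (σ i) (g u)) (h2 : ∀ i u, f (e i u) = e (σ' i) (g' u)) : σ = σ' ∧ g = g' := by
  have hs : σ = σ' := by
    obtain ⟨u, hu⟩ := t.nt
    ext i
    by_contra hne
    have hne' : σ i ≠ σ' i := fun h => hne (congrArg _ h)
    have h3 := t.eq_zero hne' ((h1 i u).symm.trans (h2 i u))
    have h4 := h1 i u
    rw [h3, t.e_zero, LinearEquiv.map_eq_zero_iff] at h4
    exact hu (t.inj1 (h4.trans (t.e_zero i).symm))
  refine ⟨hs, funext fun u => ?_⟩
  have h3 := (h1 0 u).symm.trans (h2 0 u)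
  rw [hs] at h3
  exact t.inj1 h3

theorem sg_gg_mul (c c' : centralizer ({z} : Set G)) :
    t.sg (c * c') = t.sg c * t.sg c' ∧ t.gg (c * c') = fun u => t.gg c (t.gg c' u) := by
  refine t.act_uniq (f := h.act (c * c')) (fun i u => t.act_e _ i u) fun i u => ?_
  rw [map_mul]
  show h.act c (h.act c' (e i u)) = _
  rw [t.act_e, t.act_e]
  rfl

theorem sg_mul (c c' : centralizer ({z} : Set G)) : t.sg (c * c') = t.sg c * t.sg c' := (t.sg_gg_mul c c').1

theorem gg_mul (c c' : centralizer ({z} : Set G)) (u : U) : t.gg (c * c') u = t.gg c (t.gg c' u) :=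
  congrFun (t.sg_gg_mul c c').2 u

theorem sg_gg_of_act {c : centralizer ({z} : Set G)} (hc : h.act c = 1) : t.sg c = 1 ∧ ∀ u, t.gg c u = u := by
  have := t.act_uniq (f := h.act c) (fun i u => t.act_e c i u)
    (σ' := 1) (g' := id) (fun i u => by rw [hc]; rfl)
  exact ⟨this.1, fun u => congrFun this.2 u⟩

theorem sg_one : t.sg 1 = 1 := (t.sg_gg_of_act (map_one _)).1

theorem gg_one (u : U) : t.gg 1 u = u := (t.sg_gg_of_act (map_one _)).2 u

theorem act_eq_one {c : centralizer ({z} : Set G)} (h1 : t.sg c = 1) (h2 : ∀ u, t.gg c u = u) : h.act c = 1 := by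
  ext v
  obtain ⟨a, b, rfl⟩ := t.surj01 v
  rw [map_add, t.act_e, t.act_e, h1, h2, h2]
  rfl

theorem gg_add (c : centralizer ({z} : Set G)) (u u' : U) : t.gg c (u + u') = t.gg c u + t.gg c u' := by
  have h1 := t.act_e c 0 (u + u')
  rw [t.add, map_add, t.act_e, t.act_e, ← t.add] at h1
  exact (t.inj1 h1).symm

theorem gg_zero (c : centralizer ({z} : Set G)) : t.gg c 0 = 0 := by
  have h1 := t.act_e c 0 0
  rw [t.e_zero, map_zero] at h1
  exact (t.inj1 (h1.symm.trans (t.e_zero _).symm))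

theorem gg_inv_gg (c : centralizer ({z} : Set G)) (u : U) : t.gg c⁻¹ (t.gg c u) = u := by
  rw [← t.gg_mul, inv_mul_cancel, t.gg_one]

theorem gg_gg_inv (c : centralizer ({z} : Set G)) (u : U) : t.gg c (t.gg c⁻¹ u) = u := by
  rw [← t.gg_mul, mul_inv_cancel, t.gg_one]

theorem gg_inj (c : centralizer ({z} : Set G)) {u u' : U} (hu : t.gg c u = t.gg c u') : u = u' := by
  rw [← t.gg_inv_gg c u, hu, t.gg_inv_gg]

theorem B_gg (c : centralizer ({z} : Set G)) (u u' : U) : t.B (t.gg c u) (t.gg c u') = t.B u u' := by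
  have h1 : t.sg c 0 ≠ t.sg c 1 := fun h => absurd ((t.sg c).injective h) (by decide)
  rw [← t.b_ne h1, ← t.act_e, ← t.act_e, h.b_act]
  rfl

/-- an element of order dividing 3 of `C(z)` acting as `ω ⊗ 1` -/
theorem exists_th [Finite Q] : ∃ c : centralizer ({z} : Set G), c * c * c = 1 ∧ t.sg c ≠ 1 ∧
    t.sg c * t.sg c * t.sg c = 1 ∧ ∀ u, t.gg c u = u := by
  obtain ⟨c, σ, h1, h2, h3⟩ := t.th_ex
  obtain ⟨e1, e2⟩ := t.act_uniq (f := h.act c) (fun i u => t.act_e c i u) (g' := id) (σ' := σ) (fun i u => h3 i u)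
  have e3 : ∀ u, t.gg c u = u := fun u => congrFun e2 u
  -- `c³` acts trivially
  have h4 : (c * c * c : centralizer ({z} : Set G)).1 ∈ Q := by
    apply h.mem_of_act
    refine t.act_eq_one ?_ fun u => ?_
    · rw [t.sg_mul, t.sg_mul, e1]; exact h2
    · rw [t.gg_mul, t.gg_mul, e3, e3, e3]
  set x : G := (c * c * c : centralizer ({z} : Set G)).1 with hx
  have h5 : x * x * (x * x) = 1 := by
    rcases h.sq x h4 with h6 | h6
    · rw [h6, one_mul]
    · rw [h6, h.z_sq]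
  refine ⟨c * c * (c * c), ?_, ?_, ?_, fun u => ?_⟩
  · apply Subtype.ext
    show (c : G) * c * (c * c) * (c * c * (c * c)) * (c * c * (c * c)) = 1
    rw [← h5, hx]
    show _ = (c : G) * c * c * (c * c * c) * ((c : G) * c * c * (c * c * c))
    simp only [mul_assoc]
  · rw [t.sg_mul, t.sg_mul, e1]
    have : σ * σ * (σ * σ) = σ := by
      calc σ * σ * (σ * σ) = (σ * σ * σ) * σ := by group
        _ = σ := by rw [h2, one_mul]
    rw [this]; exact h1
  · rw [t.sg_mul, t.sg_mul, e1]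
    have : σ * σ * (σ * σ) = σ := by
      calc σ * σ * (σ * σ) = (σ * σ * σ) * σ := by group
        _ = σ := by rw [h2, one_mul]
    rw [this]; exact h2
  · rw [t.gg_mul, t.gg_mul, t.gg_mul, e3, e3, e3, e3]

end Ten

end Cfsg.Agent.Omega.All.DN

end

section


/-!
# Row `D_n` of LEMMA CC, TYPE II (#13367 helper146)

`typeII`: if `V_r = N ⊗ U`, `V_s = N' ⊗ U'`, `|U'| ≥ 64`, then `s` acts on `V_r` as an element of `1 ⊗ Sp(U)`.
-/

set_option autoImplicit false

namespace Cfsg.Agent.Omega.All.DNTwo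

open Cfsg.Agent.Co2Type.Quad Cfsg.Agent.LargeExtra.CC Cfsg.Agent.LargeExtra.CC.Dt Subgroup
open Cfsg.Agent.Omega.All.DN

universe u v

section

variable {G : Type u} [Group G] {Qr Qs : Subgroup G} {r s : G} {P : G → Prop}
variable {U : Type v} [AddCommGroup U]

/-- `s` as an element of `C(r)` -/
def sC (T : Two Qr Qs r s P) : centralizer ({r} : Set G) := ⟨s, mem_centralizer_singleton_iff.2 T.comm⟩

theorem h_eq (T : Two Qr Qs r s P) (v : T.lr.V) : T.h v = T.lr.act (sC T) v := rfl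

theorem sC_sq (T : Two Qr Qs r s P) : sC T * sC T = 1 := Subtype.ext T.ls.z_sq

/-- an involution of `Sym(3)` -/
theorem exists_ij (τ : Equiv.Perm (Fin 3)) (h1 : τ ≠ 1) (h2 : τ * τ = 1) :
    ∃ i j, i ≠ j ∧ τ i = j ∧ τ j = i := by
  revert τ; decide

theorem comm_cases (τ σ : Equiv.Perm (Fin 3)) (h1 : τ ≠ 1) (h2 : τ * τ = 1) (h3 : σ * τ = τ * σ) :
    σ = 1 ∨ σ = τ := by
  have key : ∀ τ σ : Equiv.Perm (Fin 3), (τ ≠ 1 ∧ τ * τ = 1 ∧ σ * τ = τ * σ) → (σ = 1 ∨ σ = τ) := by decide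
  exact key τ σ ⟨h1, h2, h3⟩

variable (T : Two Qr Qs r s P) {e : Fin 3 → U → T.lr.V} (t : Ten T.lr e)

/-- `X_s` in `C(r)` -/
def XX (T : Two Qr Qs r s P) : Subgroup (centralizer ({r} : Set G)) := Qs.subgroupOf _

theorem mem_XX {c : centralizer ({r} : Set G)} : c ∈ XX T ↔ (c : G) ∈ Qs := mem_subgroupOf

/-- the part of `X_s` acting as `1 ⊗ b` -/
def X0 : Subgroup (centralizer ({r} : Set G)) where
  carrier := {c | c ∈ XX T ∧ t.sg c = 1}
  one_mem' := ⟨one_mem _, t.sg_one⟩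
  mul_mem' := by
    rintro a b ⟨ha, ha'⟩ ⟨hb, hb'⟩
    exact ⟨mul_mem ha hb, by rw [t.sg_mul, ha', hb', one_mul]⟩
  inv_mem' := by
    rintro a ⟨ha, ha'⟩
    refine ⟨inv_mem ha, ?_⟩
    have h1 := t.sg_mul a⁻¹ a
    rw [inv_mul_cancel, t.sg_one, ha', mul_one] at h1
    exact h1.symm

theorem mem_X0 {c : centralizer ({r} : Set G)} : c ∈ X0 T t ↔ c ∈ XX T ∧ t.sg c = 1 := Iff.rfl

theorem comm_s {c : centralizer ({r} : Set G)} (hc : c ∈ XX T) : c * sC T = sC T * c :=
  Subtype.ext (T.ls.comm_z (c : G) hc)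

theorem card_XX [Finite G] (hs : t.sg (sC T) ≠ 1) : Nat.card (XX T) ≤ 2 * Nat.card (X0 T t) := by
  classical
  have hss : t.sg (sC T) * t.sg (sC T) = 1 := by rw [← t.sg_mul, sC_sq, t.sg_one]
  have hsX : sC T ∈ XX T := T.ls.z_mem
  have key : ∀ c ∈ XX T, c ∉ X0 T t → c * sC T ∈ X0 T t := by
    intro c hc hc0
    refine ⟨mul_mem hc hsX, ?_⟩
    have h1 : t.sg c * t.sg (sC T) = t.sg (sC T) * t.sg c := by
      rw [← t.sg_mul, ← t.sg_mul, comm_s T hc]
    rcases comm_cases _ _ hs hss h1 with h2 | h2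
    · exact absurd ⟨hc, h2⟩ hc0
    · rw [t.sg_mul, h2, hss]
  have e : 2 * Nat.card (X0 T t) = Nat.card (X0 T t × Bool) := by
    rw [Nat.card_prod, Nat.card_eq_fintype_card (α := Bool), Fintype.card_bool, mul_comm]
  rw [e]
  refine Nat.card_le_card_of_injective (fun c : XX T => if hc : (c : centralizer ({r} : Set G)) ∈ X0 T t then
    ((⟨c, hc⟩ : X0 T t), false) else ((⟨c * sC T, key c c.2 hc⟩ : X0 T t), true)) ?_
  intro c c' hcc
  simp only at hcc
  split_ifs at hcc with h1 h2 h2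
  · exact Subtype.ext (congrArg (fun p : X0 T t × Bool => (p.1 : centralizer ({r} : Set G))) hcc)
  · exact absurd (congrArg Prod.snd hcc) (by simp)
  · exact absurd (congrArg Prod.snd hcc) (by simp)
  · have := congrArg (fun p : X0 T t × Bool => (p.1 : centralizer ({r} : Set G))) hcc
    exact Subtype.ext (mul_right_cancel this)

/-- elements of `X0` acting trivially on `U` lie in `Qr ∩ Qs` -/
theorem card_le_D [Finite G] {Y : Subgroup (centralizer ({r} : Set G))} (hY : Y ≤ X0 T t)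
    (h1 : ∀ y ∈ Y, ∀ u, t.gg y u = u) : Nat.card Y ≤ Nat.card (Qr ⊓ Qs : Subgroup G) := by
  have key : ∀ y ∈ Y, (y : G) ∈ Qr ⊓ Qs := fun y hy =>
    ⟨T.lr.mem_of_act y (t.act_eq_one (hY hy).2 (h1 y hy)), (hY hy).1⟩
  refine Nat.card_le_card_of_injective (fun y : Y => (⟨(y : centralizer ({r} : Set G)), key y y.2⟩ :
    (Qr ⊓ Qs : Subgroup G))) ?_
  intro y y' hyy
  have : ((y : centralizer ({r} : Set G)) : G) = (y' : centralizer ({r} : Set G)) :=
    congrArg (fun x : (Qr ⊓ Qs : Subgroup G) => (x : G)) hyy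
  exact Subtype.ext (Subtype.ext this)

/-- the counting step -/
theorem card_step [Finite G] (n : ℕ) : ∀ (A : AddSubgroup U) (Y : Subgroup (centralizer ({r} : Set G))),
    Y ≤ X0 T t → (∀ y ∈ Y, ∀ u, t.gg y u + u ∈ A) → Nat.card A ≤ 2 ^ n →
      Nat.card Y ≤ 2 ^ (n * (n + 1) / 2) * Nat.card (Qr ⊓ Qs : Subgroup G) := by
  have hUfin : Finite U := t.finite_U
  induction n with
  | zero =>
    intro A Y hY h1 h2
    have hA : ∀ a ∈ A, a = 0 := by
      intro a ha
      have h3 : Subsingleton A := (Finite.card_le_one_iff_subsingleton).1 (by simpa using h2)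
      exact congrArg Subtype.val (Subsingleton.elim (⟨a, ha⟩ : A) 0)
    simp only [Nat.zero_add, zero_mul, Nat.zero_div, pow_zero, one_mul]
    exact card_le_D T t hY fun y hy u => t.add_eq_zero.1 (hA _ (h1 y hy u))
  | succ n ih =>
    intro A Y hY h1 h2
    have hexp : (n + 1) * (n + 1 + 1) / 2 = (n + 1) + n * (n + 1) / 2 := by
      have h3 : (n + 1) * (n + 1 + 1) = (n + 1) * 2 + n * (n + 1) := by ring
      rw [h3, Nat.add_comm, Nat.add_mul_div_right _ _ (by norm_num), Nat.add_comm]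
    by_cases hA : ∀ a ∈ A, a = 0
    · calc Nat.card Y ≤ Nat.card (Qr ⊓ Qs : Subgroup G) :=
          card_le_D T t hY fun y hy u => t.add_eq_zero.1 (hA _ (h1 y hy u))
        _ ≤ 2 ^ ((n + 1) * (n + 1 + 1) / 2) * Nat.card (Qr ⊓ Qs : Subgroup G) :=
          Nat.le_mul_of_pos_left _ (by positivity)
    · push Not at hA
      obtain ⟨a, ha, ha0⟩ := hA
      obtain ⟨w, hw⟩ := t.exists_B ha0
      let Y' : Subgroup (centralizer ({r} : Set G)) :=
        { carrier := {y | y ∈ Y ∧ t.gg y w = w}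
          one_mem' := ⟨one_mem _, t.gg_one w⟩
          mul_mem' := by
            rintro x y ⟨hx, hx'⟩ ⟨hy, hy'⟩
            exact ⟨mul_mem hx hy, by rw [t.gg_mul, hy', hx']⟩
          inv_mem' := by
            rintro x ⟨hx, hx'⟩
            refine ⟨inv_mem hx, ?_⟩
            calc t.gg x⁻¹ w = t.gg x⁻¹ (t.gg x w) := by rw [hx']
              _ = w := t.gg_inv_gg x w }
      let A' : AddSubgroup U :=
        { carrier := {b | b ∈ A ∧ t.B b w = 0}
          zero_mem' := ⟨zero_mem _, t.B_zero_left w⟩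
          add_mem' := by
            rintro x y ⟨hx, hx'⟩ ⟨hy, hy'⟩
            exact ⟨add_mem hx hy, by rw [t.B_add_left, hx', hy', add_zero]⟩
          neg_mem' := by
            rintro x ⟨hx, hx'⟩
            refine ⟨neg_mem hx, ?_⟩
            show t.B (-x) w = 0
            rw [t.neg_eq]; exact hx' }
      have hA' : A' ≤ A := fun b hb => hb.1
      have hlt : 2 * Nat.card A' ≤ Nat.card A := by
        have h3 : Nat.card (A' × Bool) ≤ Nat.card A := by
          refine Nat.card_le_card_of_injective (fun p : A' × Bool =>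
            (if p.2 then ⟨(p.1 : U) + a, add_mem (hA' p.1.2) ha⟩ else ⟨p.1, hA' p.1.2⟩ : A)) ?_
          rintro ⟨b, i⟩ ⟨b', i'⟩ hbb
          cases i <;> cases i' <;> simp only [Bool.false_eq_true, if_false, if_true, Subtype.mk.injEq] at hbb
          · rw [Subtype.ext hbb]
          · exfalso
            have h4 := b.2.2
            rw [hbb, t.B_add_left, b'.2.2, hw] at h4
            exact absurd h4 (by decide)
          · exfalso
            have h4 := b'.2.2
            rw [← hbb, t.B_add_left, b.2.2, hw] at h4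
            exact absurd h4 (by decide)
          · rw [Subtype.ext (add_right_cancel hbb)]
        rwa [Nat.card_prod, Nat.card_eq_fintype_card (α := Bool), Fintype.card_bool, mul_comm] at h3
      have hY'A : ∀ y ∈ Y', ∀ u, t.gg y u + u ∈ A' := by
        rintro y ⟨hy, hyw⟩ u
        refine ⟨h1 y hy u, ?_⟩
        have h4 := t.B_gg y u w
        rw [hyw] at h4
        rw [t.B_add_left, h4]
        exact CharTwo.add_self_eq_zero _
      have hcard' : Nat.card A' ≤ 2 ^ n := by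
        have : 2 ^ (n + 1) = 2 * 2 ^ n := by ring
        omega
      have h5 := ih A' Y' (fun y hy => hY hy.1) hY'A hcard'
      -- `|Y| ≤ |A| |Y'|`
      have h6 : Nat.card Y ≤ Nat.card A * Nat.card Y' := by
        classical
        -- choose a representative for each value
        let f : Y → A := fun y => ⟨t.gg y w + w, h1 y y.2 w⟩
        have hf : ∀ y y' : Y, f y = f y' → ((y : centralizer ({r} : Set G))⁻¹ * y') ∈ Y' := by
          intro y y' hyy
          have h7 : t.gg y w + w = t.gg y' w + w := congrArg Subtype.val hyy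
          have h8 : t.gg y w = t.gg y' w := add_right_cancel h7
          refine ⟨mul_mem (inv_mem y.2) y'.2, ?_⟩
          rw [t.gg_mul, ← h8, t.gg_inv_gg]
        let ρ : A → Y := fun a => if ha : ∃ y, f y = a then ha.choose else 1
        have hρ : ∀ y, f (ρ (f y)) = f y := by
          intro y
          have hex : ∃ y', f y' = f y := ⟨y, rfl⟩
          simp only [ρ, dif_pos hex]
          exact hex.choose_spec
        rw [← Nat.card_prod]
        refine Nat.card_le_card_of_injective (fun y : Y => (f y,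
          (⟨((ρ (f y) : Y) : centralizer ({r} : Set G))⁻¹ * y, hf _ _ (hρ y)⟩ : Y'))) ?_
        intro y y' hyy
        have h7 : f y = f y' := congrArg Prod.fst hyy
        have h8 : ((ρ (f y) : Y) : centralizer ({r} : Set G))⁻¹ * y =
            ((ρ (f y') : Y) : centralizer ({r} : Set G))⁻¹ * y' :=
          congrArg (fun p : A × Y' => (p.2 : centralizer ({r} : Set G))) hyy
        rw [h7] at h8
        exact Subtype.ext (mul_left_cancel h8)
      calc Nat.card Y ≤ Nat.card A * Nat.card Y' := h6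
        _ ≤ 2 ^ (n + 1) * (2 ^ (n * (n + 1) / 2) * Nat.card (Qr ⊓ Qs : Subgroup G)) := Nat.mul_le_mul h2 h5
        _ = 2 ^ ((n + 1) * (n + 1 + 1) / 2) * Nat.card (Qr ⊓ Qs : Subgroup G) := by
          rw [hexp, pow_add 2 (n + 1), mul_assoc]

/-! ### `F = W = ψ(U)` -/

section psi

variable (i j : Fin 3)

/-- `ψ c = e i c + e j (h1 c)` -/
noncomputable def psi (c : U) : T.lr.V := e i c + e j (t.gg (sC T) c)

theorem gg_s_s (c : U) : t.gg (sC T) (t.gg (sC T) c) = c := by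
  rw [← t.gg_mul, sC_sq, t.gg_one]

theorem psi_add (c d : U) : psi T t i j (c + d) = psi T t i j c + psi T t i j d := by
  unfold psi
  rw [t.add, t.gg_add, t.add]; abel

theorem psi_zero : psi T t i j 0 = 0 := by
  unfold psi
  rw [t.gg_zero, t.e_zero, t.e_zero, add_zero]

variable {i j}

theorem psi_inj (hij : i ≠ j) {c d : U} (h : psi T t i j c = psi T t i j d) : c = d := (t.uniq hij h).1

theorem psi_mem_W (hi : t.sg (sC T) i = j) (c : U) : psi T t i j c ∈ T.W := by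
  refine ⟨e i c, ?_⟩
  rw [h_eq, t.act_e, hi, add_comm]
  rfl

theorem exists_psi (hij : i ≠ j) (hi : t.sg (sC T) i = j) (hj : t.sg (sC T) j = i) {v : T.lr.V} (hv : v ∈ T.F) :
    ∃ c, v = psi T t i j c := by
  obtain ⟨a, b, rfl⟩ := t.surj hij v
  rw [T.mem_F, h_eq, map_add, t.act_e, t.act_e, hi, hj, add_comm] at hv
  obtain ⟨h1, h2⟩ := t.uniq hij hv
  exact ⟨a, by rw [psi, h2]⟩

theorem act_psi {y : centralizer ({r} : Set G)} (hy : y ∈ X0 T t) (c : U) :
    T.lr.act y (psi T t i j c) = psi T t i j (t.gg y c) := by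
  unfold psi
  rw [map_add, t.act_e, t.act_e, hy.2]
  have h1 : t.gg y (t.gg (sC T) c) = t.gg (sC T) (t.gg y c) := by
    rw [← t.gg_mul, ← t.gg_mul, comm_s T hy.1]
  rw [h1]; rfl

end psi

/-- the action of `y ∈ C(r)` in the notation of `Two` -/
theorem ac_eq {y : centralizer ({r} : Set G)} (hy : (y : G) * r = r * y) (v : T.lr.V) :
    T.ac hy v = T.lr.act y v := rfl

/-- `|X_s| ≤ 64`, and `|X_s| ≤ 4` if `D~ = 0` -/
theorem card_XX_le [Finite G] (hs : t.sg (sC T) ≠ 1) :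
    Nat.card (XX T) ≤ 64 ∧ ((∀ v ∈ T.Dt, v = 0) → Nat.card (XX T) ≤ 4) := by
  have hUfin : Finite U := t.finite_U
  have hss : t.sg (sC T) * t.sg (sC T) = 1 := by rw [← t.sg_mul, sC_sq, t.sg_one]
  obtain ⟨i, j, hij, hi, hj⟩ := exists_ij _ hs hss
  have h0 := card_XX T t hs
  have hcr : ∀ y : centralizer ({r} : Set G), (y : G) * r = r * y := fun y =>
    mem_centralizer_singleton_iff.1 y.2
  by_cases hD : ∀ v ∈ T.Dt, v = 0
  · -- (i)
    have hD1 : Nat.card (Qr ⊓ Qs : Subgroup G) ≤ 1 := by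
      rw [Finite.card_le_one_iff_subsingleton]
      refine ⟨fun x y => ?_⟩
      have key : ∀ x : (Qr ⊓ Qs : Subgroup G), (x : G) = 1 := by
        intro x
        have h1 := hD (T.lr.pr ⟨x, x.2.1⟩) ⟨⟨x, x.2.1⟩, x.2.2, rfl⟩
        rw [T.lr.pr_eq_zero] at h1
        rcases h1 with h1 | h1
        · exact h1
        · exact absurd (h1 ▸ x.2.2) T.hr
      exact Subtype.ext ((key x).trans (key y).symm)
    let A : AddSubgroup U :=
      { carrier := {a | ∀ c, psi T t i j c ∈ T.Xt → t.B a c = 0}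
        zero_mem' := fun c _ => t.B_zero_left c
        add_mem' := fun {a b} ha hb c hc => by rw [t.B_add_left, ha c hc, hb c hc, add_zero]
        neg_mem' := fun {a} ha c hc => by
          rw [t.neg_eq]; exact ha c hc }
    have hA : ∀ y ∈ X0 T t, ∀ u, t.gg y u + u ∈ A := by
      intro y hy u c hc
      have h1 := T.ac_Xt (y := (y : G)) ((mem_XX T).1 hy.1) (hcr y) hc
      have h2 := hD _ h1
      rw [T.add_eq_zero] at h2
      have h2' : T.lr.act y (psi T t i j c) = psi T t i j c := h2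
      rw [act_psi T t hy] at h2'
      have h3 := psi_inj T t hij h2'
      have h4 := t.B_gg y u c
      rw [h3] at h4
      rw [t.B_add_left, h4]
      exact CharTwo.add_self_eq_zero _
    have hA2 : Nat.card A ≤ 2 ^ 1 := by
      by_cases hX : ∀ c, psi T t i j c ∈ T.Xt
      · have : Subsingleton A := ⟨fun a b => Subtype.ext
          ((t.B_nondeg fun c => a.2 c (hX c)).trans (t.B_nondeg fun c => b.2 c (hX c)).symm)⟩
        exact (Finite.card_le_one_iff_subsingleton.2 this).trans (by norm_num)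
      · push Not at hX
        obtain ⟨c0, hc0⟩ := hX
        have hF : ∀ c, psi T t i j c ∈ T.F := fun c => T.W_le_F (psi_mem_W T t hi c)
        have key : ∀ a ∈ A, t.B a c0 = 0 → a = 0 := by
          intro a ha h1
          apply t.B_nondeg
          intro c
          by_cases hc : psi T t i j c ∈ T.Xt
          · exact ha c hc
          · have h2 := T.add_mem_Xt (hF c) (hF c0) hc hc0
            rw [← psi_add] at h2
            have h3 := ha _ h2
            rwa [t.B_add_right, h1, add_zero] at h3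
        have hinj : Function.Injective (fun a : A => t.B a c0) := by
          intro a b hab
          have hab' : t.B a c0 = t.B b c0 := hab
          apply Subtype.ext
          apply t.add_eq_zero.1
          apply key _ (add_mem a.2 b.2)
          rw [t.B_add_left, hab']
          exact CharTwo.add_self_eq_zero _
        have h1 := Nat.card_le_card_of_injective _ hinj
        simpa using h1
    have h1 := card_step T t 1 A (X0 T t) le_rfl hA hA2
    have e1 : 2 ^ (1 * (1 + 1) / 2) = 2 := by norm_num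
    rw [e1] at h1
    have h2 : Nat.card (XX T) ≤ 4 := by omega
    exact ⟨by omega, fun _ => h2⟩
  · refine ⟨?_, fun h => absurd h hD⟩
    push Not at hD
    obtain ⟨δ, hδ, hδ0⟩ := hD
    have hFW : T.F ≤ T.W := by
      intro v hv
      obtain ⟨c, rfl⟩ := exists_psi T t hij hi hj hv
      exact psi_mem_W T t hi c
    have hδF : δ ∈ T.F := T.Xt_le_F (T.Dt_le_Xt hδ)
    have hFX := T.F_le_Xt hδ (hFW hδF) hδ0
    let A : AddSubgroup U :=
      { carrier := {a | psi T t i j a ∈ T.Dt}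
        zero_mem' := by
          show psi T t i j 0 ∈ T.Dt
          rw [psi_zero]; exact zero_mem _
        add_mem' := by
          intro a b ha hb
          show psi T t i j (a + b) ∈ T.Dt
          rw [psi_add]; exact add_mem ha hb
        neg_mem' := by
          intro a ha
          show psi T t i j (-a) ∈ T.Dt
          rw [t.neg_eq]; exact ha }
    have hA : ∀ y ∈ X0 T t, ∀ u, t.gg y u + u ∈ A := by
      intro y hy u
      have h1 : T.lr.act y (psi T t i j u) + psi T t i j u ∈ T.Dt :=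
        T.ac_Xt (y := (y : G)) ((mem_XX T).1 hy.1) (hcr y) (hFX (T.W_le_F (psi_mem_W T t hi u)))
      rw [act_psi T t hy, ← psi_add] at h1
      exact h1
    have hA2 : Nat.card A ≤ 2 ^ 2 := by
      refine le_trans ?_ (card_Dt_le T)
      refine Nat.card_le_card_of_injective (fun a : A => (⟨psi T t i j a, a.2⟩ : T.Dt)) ?_
      intro a b hab
      exact Subtype.ext (psi_inj T t hij (congrArg Subtype.val hab))
    have h1 := card_step T t 2 A (X0 T t) le_rfl hA hA2
    have e1 : 2 ^ (2 * (2 + 1) / 2) = 8 := by norm_num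
    rw [e1] at h1
    have h2 := Dt.card_le T
    omega

/-- `2 |X_s~| ≤ |X_s|` -/
theorem two_card_le [Finite G] : 2 * Nat.card T.symm.Xt ≤ Nat.card (XX T) := by
  classical
  -- a section of `pr`
  have key : ∀ v : T.symm.Xt, ∃ x : Qs, T.ls.pr x = v ∧ (x : G) * r = r * x := by
    rintro ⟨v, hv⟩
    obtain ⟨x, rfl⟩ := T.ls.pr_surjective v
    exact ⟨x, rfl, (T.symm.pr_mem_Xt x).1 hv⟩
  choose f hf1 hf2 using key
  have e : 2 * Nat.card T.symm.Xt = Nat.card (T.symm.Xt × Bool) := by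
    rw [Nat.card_prod, Nat.card_eq_fintype_card (α := Bool), Fintype.card_bool, mul_comm]
  rw [e]
  have hmem : ∀ v : T.symm.Xt, (f v : G) ∈ centralizer ({r} : Set G) := fun v =>
    mem_centralizer_singleton_iff.2 (hf2 v)
  have hprs : ∀ x : Qs, T.ls.pr (x * ⟨s, T.ls.z_mem⟩) = T.ls.pr x := by
    intro x
    rw [T.ls.pr_eq_pr]
    right; rfl
  refine Nat.card_le_card_of_injective (fun p : T.symm.Xt × Bool =>
    (if p.2 then ⟨⟨f p.1, hmem p.1⟩ * sC T, mul_mem (f p.1).2 T.ls.z_mem⟩ else ⟨⟨f p.1, hmem p.1⟩, (f p.1).2⟩ :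
      XX T)) ?_
  rintro ⟨v, i⟩ ⟨w, k⟩ hvw
  have hs1 : s ≠ 1 := T.ls.z_ne
  cases i <;> cases k <;> simp only [Bool.false_eq_true, if_false, if_true] at hvw
  · have h1 : f v = f w := Subtype.ext (congrArg (fun x : XX T => ((x : centralizer ({r} : Set G)) : G)) hvw)
    have h2 : v = w := Subtype.ext (by rw [← hf1, ← hf1, h1])
    rw [h2]
  · exfalso
    have h1 : (f v : G) = f w * s := congrArg (fun x : XX T => ((x : centralizer ({r} : Set G)) : G)) hvw
    have h2 : f v = f w * ⟨s, T.ls.z_mem⟩ := Subtype.ext h1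
    have h3 : v = w := Subtype.ext (by rw [← hf1, ← hf1, h2, hprs])
    rw [h3] at h1
    exact hs1 (by simpa using h1)
  · exfalso
    have h1 : (f v : G) * s = f w := congrArg (fun x : XX T => ((x : centralizer ({r} : Set G)) : G)) hvw
    have h2 : f w = f v * ⟨s, T.ls.z_mem⟩ := Subtype.ext h1.symm
    have h3 : v = w := Subtype.ext (by rw [← hf1, ← hf1, h2, hprs])
    rw [h3] at h1
    exact hs1 (by simpa using h1)
  · have h1 : (f v : G) * s = f w * s :=
      congrArg (fun x : XX T => ((x : centralizer ({r} : Set G)) : G)) hvw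
    have h2 : f v = f w := Subtype.ext (mul_right_cancel h1)
    have h3 : v = w := Subtype.ext (by rw [← hf1, ← hf1, h2])
    rw [h3]

end

/-- **TYPE II is impossible.** -/
theorem typeII {G : Type u} [Group G] [Finite G] {Qr Qs : Subgroup G} {r s : G} {P : G → Prop}
    (T : Two Qr Qs r s P) {U U' : Type v} [AddCommGroup U] [AddCommGroup U']
    {e : Fin 3 → U → T.lr.V} (t : Ten T.lr e) {e' : Fin 3 → U' → T.ls.V} (t' : Ten T.ls e')
    (hU : 64 ≤ Nat.card U') : t.sg ⟨s, mem_centralizer_singleton_iff.2 T.comm⟩ = 1 := by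
  by_contra hs
  have hUfin : Finite U' := t'.finite_U
  obtain ⟨h1, h2⟩ := card_XX_le T t hs
  have h3 := two_card_le T
  have hFX : Nat.card T.symm.F ≤ 2 * Nat.card T.symm.Xt :=
    card_le_two (fun v hv w hw => T.symm.add_mem_Xt hv hw)
  have hFW := T.symm.card_W_F
  have hV : Nat.card T.symm.lr.V = Nat.card U' * Nat.card U' := t'.card_V
  rw [hV] at hFW
  have hWF : Nat.card T.symm.W ≤ Nat.card T.symm.F :=
    Nat.card_le_card_of_injective _ (Submodule.inclusion_injective T.symm.W_le_F)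
  have hUF : Nat.card U' ≤ Nat.card T.symm.F := by
    by_contra hcon
    push Not at hcon
    have h4 : Nat.card T.symm.F * Nat.card T.symm.W < Nat.card U' * Nat.card U' :=
      Nat.mul_lt_mul_of_lt_of_le hcon (hWF.trans hcon.le) (by omega)
    omega
  by_cases hD : ∀ v ∈ T.Dt, v = 0
  · have := h2 hD
    omega
  · have hXU : Nat.card U' ≤ Nat.card T.symm.Xt := by
      by_cases hle : T.symm.F ≤ T.symm.W
      · -- `D~' ≠ 0`
        push Not at hD
        obtain ⟨δ, ⟨x, hx, rfl⟩, hδ0⟩ := hD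
        have hxr : T.ls.pr ⟨x, hx⟩ ∈ T.symm.Dt := ⟨⟨x, hx⟩, x.2, rfl⟩
        have hx0 : T.ls.pr ⟨x, hx⟩ ≠ 0 := by
          intro h4
          rw [T.ls.pr_eq_zero] at h4
          rcases h4 with h4 | h4
          · exact hδ0 (T.lr.pr_eq_zero.2 (Or.inl h4))
          · have h5 : (x : G) = s := h4
            exact T.hs (h5 ▸ x.2)
        have hF := T.symm.Xt_le_F (T.symm.Dt_le_Xt hxr)
        have h4 := T.symm.F_le_Xt hxr (hle hF) hx0
        exact hUF.trans (Nat.card_le_card_of_injective _ (Submodule.inclusion_injective h4))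
      · -- `|F'| ≥ 2 |U'|`
        have hne : T.symm.W < T.symm.F := lt_of_le_not_ge T.symm.W_le_F hle
        have hF := Module.natCard_eq_pow_finrank (K := ZMod 2) (V := T.symm.F)
        have hW := Module.natCard_eq_pow_finrank (K := ZMod 2) (V := T.symm.W)
        rw [Nat.card_zmod] at hF hW
        have hlt := Submodule.finrank_lt_finrank_of_lt hne
        set f := Module.finrank (ZMod 2) T.symm.F
        set w := Module.finrank (ZMod 2) T.symm.W
        have hUp : Nat.card U' ∣ 2 ^ (f + w) := by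
          rw [pow_add, ← hF, ← hW, hFW]
          exact Dvd.intro _ rfl
        obtain ⟨m, -, hm⟩ := (Nat.dvd_prime_pow Nat.prime_two).1 hUp
        have h5 : 2 ^ (f + w) = 2 ^ (m + m) := by
          rw [pow_add, ← hF, ← hW, hFW, hm, pow_add]
        have h6 := Nat.pow_right_injective le_rfl h5
        have h7 : m + 1 ≤ f := by omega
        have h8 : 2 * Nat.card U' ≤ Nat.card T.symm.F := by
          rw [hm, hF]
          calc 2 * 2 ^ m = 2 ^ (m + 1) := by ring
            _ ≤ 2 ^ f := Nat.pow_le_pow_right (by norm_num) h7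
        omega
    omega

end Cfsg.Agent.Omega.All.DNTwo

end

section


/-!
# EH3 ==> G, group part (helper805, after helper990's LEMMA CC and helper635's bound)

`Out Q z V m` : `V` abelian, normalised by `Q` and by `m`, `z ∈ V`, and `Q ∩ Q^m` contains no conjugate of `z`
(`m` moves the component of `z`).  If no element of `C(z)` acts on `Q/z` with `|[Q/z, h]| = 4` then
`|Q/z| ≤ 64 |V : V ∩ Q|²` (`Out.main`).
-/

set_option autoImplicit false

namespace Cfsg.Agent.Omega.EH3Close.Quad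

open Cfsg.Agent.Co2Type.Quad Cfsg.Agent.LargeExtra.Base Cfsg.Agent.LargeExtra.Local Cfsg.Agent.LargeExtra.CC

variable {G : Type*} [Group G]

/-- conjugate of a subgroup -/
def cj (m : G) (Q : Subgroup G) : Subgroup G := Q.map (MulAut.conj m).toMonoidHom

theorem mem_cj {m x : G} {Q : Subgroup G} : x ∈ cj m Q ↔ m⁻¹ * x * m ∈ Q := by
  constructor
  · rintro ⟨y, hy, rfl⟩
    have : m⁻¹ * ((MulAut.conj m).toMonoidHom y) * m = y := by
      show m⁻¹ * (m * y * m⁻¹) * m = y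
      group
    rw [this]
    exact hy
  · intro h
    refine ⟨_, h, ?_⟩
    show m * (m⁻¹ * x * m) * m⁻¹ = x
    group

/-- transport of `Large` -/
theorem large_cj {Q : Subgroup G} {z : G} (h : Large Q z) (m : G) : Large (cj m Q) (m * z * m⁻¹) where
  z_mem := by
    rw [mem_cj]
    have : m⁻¹ * (m * z * m⁻¹) * m = z := by group
    rw [this]
    exact h.z_mem
  z_ne := by
    intro e
    apply h.z_ne
    have : z = m⁻¹ * (m * z * m⁻¹) * m := by group
    rw [this, e]; group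
  z_sq := by
    have : m * z * m⁻¹ * (m * z * m⁻¹) = m * (z * z) * m⁻¹ := by group
    rw [this, h.z_sq]; group
  comm_z := by
    intro x hx
    rw [mem_cj] at hx
    have h1 := h.comm_z _ hx
    calc x * (m * z * m⁻¹) = m * ((m⁻¹ * x * m) * z) * m⁻¹ := by group
      _ = m * (z * (m⁻¹ * x * m)) * m⁻¹ := by rw [h1]
      _ = _ := by group
  conj_mem := by
    intro g hg x hx
    rw [mem_cj] at hx ⊢
    have hg' : (m⁻¹ * g * m) * z = z * (m⁻¹ * g * m) := by
      calc (m⁻¹ * g * m) * z = m⁻¹ * (g * (m * z * m⁻¹)) * m := by group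
        _ = m⁻¹ * ((m * z * m⁻¹) * g) * m := by rw [hg]
        _ = _ := by group
    have h1 := h.conj_mem _ hg' _ hx
    have e : m⁻¹ * g * m * (m⁻¹ * x * m) * (m⁻¹ * g * m)⁻¹ = m⁻¹ * (g * x * g⁻¹) * m := by group
    rwa [e] at h1
  sq := by
    intro x hx
    rw [mem_cj] at hx
    have e : x * x = m * ((m⁻¹ * x * m) * (m⁻¹ * x * m)) * m⁻¹ := by group
    rcases h.sq _ hx with h1 | h1
    · left; rw [e, h1]; group
    · right; rw [e, h1]
  comm := by
    intro x hx y hy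
    rw [mem_cj] at hx hy
    have e : x * y = m * ((m⁻¹ * x * m) * (m⁻¹ * y * m)) * m⁻¹ := by group
    have e' : y * x = m * ((m⁻¹ * y * m) * (m⁻¹ * x * m)) * m⁻¹ := by group
    rcases h.comm _ hx _ hy with h1 | h1
    · left; rw [e, e', h1]
    · right; rw [e, e', h1]; group
  cent := by
    intro x hx hc
    rw [mem_cj] at hx
    have h1 := h.cent _ hx (by
      intro y hy
      have h2 := hc (m * y * m⁻¹) (by
        rw [mem_cj]
        have : m⁻¹ * (m * y * m⁻¹) * m = y := by group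
        rw [this]; exact hy)
      calc m⁻¹ * x * m * y = m⁻¹ * (x * (m * y * m⁻¹)) * m := by group
        _ = m⁻¹ * ((m * y * m⁻¹) * x) * m := by rw [h2]
        _ = _ := by group)
    have e : x = m * (m⁻¹ * x * m) * m⁻¹ := by group
    rcases h1 with h1 | h1
    · left; rw [e, h1]; group
    · right; rw [e, h1]
  self := by
    intro g hg hc
    rw [mem_cj]
    apply h.self
    · calc (m⁻¹ * g * m) * z = m⁻¹ * (g * (m * z * m⁻¹)) * m := by group
        _ = m⁻¹ * ((m * z * m⁻¹) * g) * m := by rw [hg]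
        _ = _ := by group
    · intro x hx
      have h2 := hc (m * x * m⁻¹) (by
        rw [mem_cj]
        have : m⁻¹ * (m * x * m⁻¹) * m = x := by group
        rw [this]; exact hx)
      calc m⁻¹ * g * m * x = m⁻¹ * (g * (m * x * m⁻¹)) * m := by group
        _ = m⁻¹ * ((m * x * m⁻¹) * g) * m := by rw [h2]
        _ = _ := by group

theorem card_inf_mul_relIndex [Finite G] (H K : Subgroup G) :
    Nat.card (K ⊓ H : Subgroup G) * H.relIndex K = Nat.card K := by
  have h1 := Subgroup.card_mul_index (H.subgroupOf K)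
  have h2 : Nat.card (K ⊓ H : Subgroup G) = Nat.card (H.subgroupOf K) := by
    rw [inf_comm, ← Subgroup.subgroupOf_map_subtype]
    exact (Nat.card_congr ((H.subgroupOf K).equivMapOfInjective _ K.subtype_injective).toEquiv).symm
  rw [h2]
  exact h1

section W

variable {Qr Qs : Subgroup G} {r s : G} {P : G → Prop}

/-- `2 |[Q/z, s]| ≤ |V ∩ Q|` if `V` contains `z` and `s` and is normalised by `Q` -/
theorem card_W_mul_two_le [Finite G] (T : Two Qr Qs r s P) {V : Subgroup G} (hr : r ∈ V) (hs : s ∈ V)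
    (hn : ∀ q ∈ Qr, ∀ v ∈ V, q * v * q⁻¹ ∈ V) : Nat.card T.W * 2 ≤ Nat.card (V ⊓ Qr : Subgroup G) := by
  classical
  have key : ∀ w : T.W, ∃ x : Qr, (x : G) ∈ V ∧ T.lr.pr x = w := by
    rintro ⟨w, u, hu⟩
    obtain ⟨x, rfl⟩ := T.lr.pr_surjective u
    refine ⟨⟨x * s * (x : G)⁻¹ * s⁻¹, T.comm_mem x.2⟩, ?_, ?_⟩
    · exact V.mul_mem (hn x x.2 s hs) (V.inv_mem hs)
    · rw [T.pr_comm]
      exact hu
  choose f hf1 hf2 using key
  have hrQ : r ∈ Qr := T.lr.z_mem
  have h1 : Nat.card (T.W × Bool) ≤ Nat.card (V ⊓ Qr : Subgroup G) := by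
    refine Nat.card_le_card_of_injective
      (fun p => (⟨(f p.1 : G) * (if p.2 then r else 1), V.mul_mem (hf1 p.1) (by split_ifs; exacts [hr, V.one_mem]),
        Qr.mul_mem (f p.1).2 (by split_ifs; exacts [hrQ, Qr.one_mem])⟩ : (V ⊓ Qr : Subgroup G))) ?_
    rintro ⟨w, b⟩ ⟨w', b'⟩ e
    have e1 : (f w : G) * (if b then r else 1) = (f w' : G) * (if b' then r else 1) := congrArg Subtype.val e
    have e2 : T.lr.pr (f w) = T.lr.pr (f w') := by
      rw [T.lr.pr_eq_pr]
      cases b <;> cases b'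
      · left; simpa using e1
      · right; simpa using e1
      · right
        have : (f w : G) * r = f w' := by simpa using e1
        rw [← this, mul_assoc, T.lr.z_sq, mul_one]
      · left; simpa using e1
    rw [hf2, hf2] at e2
    have e3 : w = w' := Subtype.ext e2
    subst e3
    have e4 := mul_left_cancel e1
    cases b <;> cases b'
    · rfl
    · exact absurd (by simpa using e4.symm) T.lr.z_ne
    · exact absurd (by simpa using e4) T.lr.z_ne
    · rfl
  rwa [Nat.card_prod, Nat.card_eq_fintype_card (α := Bool), Fintype.card_bool] at h1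

end W

/-- the situation -/
structure Out (Q : Subgroup G) (z : G) (V : Subgroup G) (m : G) : Prop where
  lz : Large Q z
  comm : ∀ x ∈ V, ∀ y ∈ V, x * y = y * x
  zV : z ∈ V
  norm : ∀ q ∈ Q, ∀ v ∈ V, q * v * q⁻¹ ∈ V
  mV : ∀ v ∈ V, m * v * m⁻¹ ∈ V
  none : ∀ x ∈ Q, m⁻¹ * x * m ∈ Q → ¬ IsConj z x

namespace Out

variable {Q : Subgroup G} {z : G} {V : Subgroup G} {m : G}

theorem sV (o : Out Q z V m) : m * z * m⁻¹ ∈ V := o.mV z o.zV

theorem two (o : Out Q z V m) : Two Q (cj m Q) z (m * z * m⁻¹) (IsConj z) where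
  lr := o.lz
  ls := large_cj o.lz m
  comm := o.comm _ o.sV _ o.zV
  hr := fun h => o.none z o.lz.z_mem (mem_cj.1 h) (IsConj.refl z)
  hs := fun h => o.none _ h (by
    have : m⁻¹ * (m * z * m⁻¹) * m = z := by group
    rw [this]; exact o.lz.z_mem) (isConj_iff.2 ⟨m, rfl⟩)
  conj := fun g x hx => hx.trans (isConj_iff.2 ⟨g, rfl⟩)
  Pr := IsConj.refl z
  Ps := isConj_iff.2 ⟨m, rfl⟩
  none := fun x hx hx' => o.none x hx (mem_cj.1 hx')

theorem cj_V [Finite G] (o : Out Q z V m) : cj m V = V := by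
  have h1 : cj m V ≤ V := by
    rintro _ ⟨v, hv, rfl⟩
    exact o.mV v hv
  refine Subgroup.eq_of_le_of_card_ge h1 (le_of_eq ?_)
  exact Nat.card_congr (V.equivMapOfInjective _ (MulAut.conj m).injective).toEquiv

theorem relIndex_cj [Finite G] (o : Out Q z V m) : (cj m Q).relIndex V = Q.relIndex V := by
  conv_lhs => rw [← o.cj_V]
  exact Subgroup.relIndex_map_map_of_injective Q V (MulAut.conj m).injective

theorem card_inf_le [Finite G] (o : Out Q z V m) : Nat.card (V ⊓ Q : Subgroup G) ≤ 4 * Q.relIndex V := by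
  have h1 : Nat.card (Q ⊓ cj m Q : Subgroup G) ≤ 4 := Dt.card_le o.two
  have h2 : (cj m Q).relIndex (V ⊓ Q) ≤ (cj m Q).relIndex V :=
    Subgroup.relIndex_le_of_le_right inf_le_left (Subgroup.index_ne_zero_of_finite)
  have h3 := card_inf_mul_relIndex (cj m Q) (V ⊓ Q)
  have h4 : Nat.card (V ⊓ Q ⊓ cj m Q : Subgroup G) ≤ Nat.card (Q ⊓ cj m Q : Subgroup G) :=
    Nat.card_mono (Set.toFinite _) (inf_le_inf_right _ inf_le_right)
  rw [← h3, ← o.relIndex_cj]
  exact Nat.mul_le_mul (h4.trans h1) h2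

/-- `|[Q/z, s]| ≤ 2 |V : V ∩ Q|` -/
theorem card_W_le [Finite G] (o : Out Q z V m) : Nat.card o.two.W ≤ 2 * Q.relIndex V := by
  have h1 := card_W_mul_two_le o.two o.zV o.sV o.norm
  have h2 := o.card_inf_le
  omega

/-- **The bound.** -/
theorem main [Finite G] (o : Out Q z V m) (h4' : Nat.card o.two.symm.W ≠ 4) :
    Nat.card o.lz.V ≤ 64 * (Q.relIndex V * Q.relIndex V) := by
  have h1 : Nat.card o.two.lr.V ≤ 16 * (Nat.card o.two.W * Nat.card o.two.W) := by
    rcases o.two.symm.main with h | h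
    · exact absurd h h4'
    · exact h
  have h2 := o.card_W_le
  have h3 : Nat.card o.two.W * Nat.card o.two.W ≤ (2 * Q.relIndex V) * (2 * Q.relIndex V) :=
    Nat.mul_le_mul h2 h2
  calc Nat.card o.lz.V ≤ 16 * (Nat.card o.two.W * Nat.card o.two.W) := h1
    _ ≤ 16 * ((2 * Q.relIndex V) * (2 * Q.relIndex V)) := Nat.mul_le_mul_left _ h3
    _ = 64 * (Q.relIndex V * Q.relIndex V) := by ring

end Out

end Cfsg.Agent.Omega.EH3Close.Quad

end

section


/-!
# The order of `C_{Qs}(r)` when `|[Vs, r]| = 4` (helper616)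
-/

set_option autoImplicit false

namespace Cfsg.Agent.Omega.EH3Close.CountB

open Cfsg.Agent.Co2Type.Quad Cfsg.Agent.LargeExtra.Base Cfsg.Agent.LargeExtra.Local
open Cfsg.Agent.LargeExtra.CC

variable {G : Type*} [Group G] {Qr Qs : Subgroup G} {r s : G} {P : G → Prop}

/-- `2 |C_{Qr}(s) / ⟨r⟩| ≤ |C_{Qr}(s)|` -/
theorem card_Xt [Finite G] (T : Two Qr Qs r s P) :
    2 * Nat.card T.Xt ≤ Nat.card (Qr ⊓ Subgroup.centralizer ({s} : Set G) : Subgroup G) := by
  classical
  have hr : ∀ x : G, x ∈ Qr → x * s = s * x → x * r ∈ Qr ∧ (x * r) * s = s * (x * r) := by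
    intro x hx hc
    refine ⟨Qr.mul_mem hx T.lr.z_mem, ?_⟩
    calc x * r * s = x * (r * s) := by group
      _ = x * (s * r) := by rw [T.comm]
      _ = (x * s) * r := by group
      _ = s * (x * r) := by rw [hc]; group
  -- a section of `pr`
  have hsec : ∀ v : T.Xt, ∃ x : Qr, T.lr.pr x = v ∧ (x : G) * s = s * x := by
    rintro ⟨v, hv⟩
    obtain ⟨x, rfl⟩ := T.lr.pr_surjective v
    exact ⟨x, rfl, (T.pr_mem_Xt x).1 hv⟩
  choose f hf hc using hsec
  let g : T.Xt × Bool → (Qr ⊓ Subgroup.centralizer ({s} : Set G) : Subgroup G) := fun p =>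
    if p.2 then ⟨(f p.1 : G) * r, (hr _ (f p.1).2 (hc p.1)).1,
        Subgroup.mem_centralizer_singleton_iff.2 (hr _ (f p.1).2 (hc p.1)).2⟩
      else ⟨f p.1, (f p.1).2, Subgroup.mem_centralizer_singleton_iff.2 (hc p.1)⟩
  have hg : ∀ p, ((g p : G) = f p.1 ∧ p.2 = false) ∨ ((g p : G) = f p.1 * r ∧ p.2 = true) := by
    rintro ⟨v, b⟩
    cases b
    · left; exact ⟨rfl, rfl⟩
    · right; exact ⟨rfl, rfl⟩
  have hpr : ∀ v w : T.Xt, ((f v : G) = f w ∨ (f v : G) = f w * r) → v = w := by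
    intro v w h
    have h1 := T.lr.pr_eq_pr.2 h
    rw [hf, hf] at h1
    exact Subtype.ext h1
  have hr1 : r ≠ 1 := T.lr.z_ne
  have hinj : Function.Injective g := by
    intro p p' he
    have he' : (g p : G) = g p' := congrArg Subtype.val he
    rcases hg p with ⟨h1, h2⟩ | ⟨h1, h2⟩ <;> rcases hg p' with ⟨h3, h4⟩ | ⟨h3, h4⟩
    · rw [h1, h3] at he'
      exact Prod.ext (hpr _ _ (Or.inl he')) (h2.trans h4.symm)
    · exfalso
      rw [h1, h3] at he'
      have h5 := hpr _ _ (Or.inr he')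
      rw [h5] at he'
      exact hr1 (left_eq_mul.1 he')
    · exfalso
      rw [h1, h3] at he'
      have h5 := hpr _ _ (Or.inr he'.symm)
      rw [h5] at he'
      exact hr1 (mul_eq_left.1 he')
    · rw [h1, h3] at he'
      exact Prod.ext (hpr _ _ (Or.inl (mul_right_cancel he'))) (h2.trans h4.symm)
  have h1 := Nat.card_le_card_of_injective g hinj
  rwa [Nat.card_prod, Nat.card_eq_fintype_card (α := Bool), Fintype.card_bool, mul_comm] at h1

theorem card_A [Finite G] (T : Two Qr Qs r s P) (h4 : Nat.card T.W = 4) {k : ℕ} (hc : Nat.card Qr = 2 ^ (k + 5)) :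
    2 ^ (k + 2) ≤ Nat.card (Qr ⊓ Subgroup.centralizer ({s} : Set G) : Subgroup G) := by
  have h1 := T.lr.card_eq
  have h2 := T.card_W_F
  have h3 : Nat.card T.F ≤ 2 * Nat.card T.Xt := card_le_two (fun v hv w hw => T.add_mem_Xt hv hw)
  have h5 := card_Xt T
  rw [h4] at h2
  rw [hc, ← h2, pow_add] at h1
  rw [pow_add]
  omega

theorem card_B [Finite G] (T : Two Qr Qs r s P) (h4 : Nat.card T.symm.W = 4) {k : ℕ}
    (hc : Nat.card Qs = 2 ^ (k + 5)) :
    2 ^ (k + 2) ≤ Nat.card (Qs ⊓ Subgroup.centralizer ({r} : Set G) : Subgroup G) :=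
  card_A T.symm h4 hc

end Cfsg.Agent.Omega.EH3Close.CountB

end
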